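import Mathlib
import Cfsg.Prelude.Def_TwoFusion

/-!
# Elements conjugate into a strongly closed subgroup (helper5, S1252)

* `ClosedRow L` : the strongly closed subgroups of a Sylow 2-subgroup of `L` are trivial or the whole;
* `Cl A x` : `x` is conjugate to an element of `A`;
* `Cl.mul` : if `A` is strongly closed in the Sylow `p`-subgroup `S` and `x`, `y` lie in a `p`-subgroup then `Cl A x` and
  `Cl A y` imply `Cl A (x * y)`; `Cl.mul_invol` : the same for two involutions with product of 2-power order;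
* `Cl.mem` : `x ∈ S` and `Cl A x` imply `x ∈ A`;
* `eq_of_cl`, `exists_involution`, `ClosedRow.congr`.
-/

set_option autoImplicit false

namespace Cfsg.Agent.ClosedTwo.Elem

open Subgroup Cfsg

variable {G : Type*} [Group G]

/-- `x` is conjugate to an element of `A`. -/
def Cl (A : Subgroup G) (x : G) : Prop := ∃ g : G, g * x * g⁻¹ ∈ A

theorem cl_of_mem {A : Subgroup G} {x : G} (h : x ∈ A) : Cl A x := ⟨1, by simpa using h⟩

theorem Cl.conj {A : Subgroup G} {x : G} (h : Cl A x) (g : G) : Cl A (g * x * g⁻¹) := by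
  obtain ⟨k, hk⟩ := h
  exact ⟨k * g⁻¹, by simpa [mul_assoc] using hk⟩

theorem Cl.of_conj {A : Subgroup G} {x g : G} (h : Cl A (g * x * g⁻¹)) : Cl A x := by
  have := h.conj g⁻¹
  simpa [mul_assoc] using this

theorem Cl.inv {A : Subgroup G} {x : G} (h : Cl A x) : Cl A x⁻¹ := by
  obtain ⟨k, hk⟩ := h
  refine ⟨k, ?_⟩
  have := A.inv_mem hk
  simpa [mul_assoc] using this

theorem Cl.pow {A : Subgroup G} {x : G} (h : Cl A x) (n : ℕ) : Cl A (x ^ n) := by
  obtain ⟨k, hk⟩ := h
  refine ⟨k, ?_⟩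
  rw [← conj_pow]
  exact A.pow_mem hk n

theorem cl_one {A : Subgroup G} : Cl A (1 : G) := cl_of_mem A.one_mem

section sylow

variable {p : ℕ} [hp : Fact p.Prime] [Finite G] {S : Sylow p G} {A : Subgroup G}

omit [Finite G] hp in
/-- conjugates of elements of `A` in `S` are in `A` -/
theorem Cl.mem (hA : IsStronglyClosed A (S : Subgroup G)) {x : G} (hx : x ∈ (S : Subgroup G)) (h : Cl A x) : x ∈ A := by
  obtain ⟨k, hk⟩ := h
  have := hA.2 _ hk k⁻¹ (by simpa [mul_assoc] using hx)
  simpa [mul_assoc] using this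

/-- every `p`-subgroup can be conjugated into `S` -/
theorem exists_conj_le (S : Sylow p G) {P : Subgroup G} (hP : IsPGroup p P) :
    ∃ g : G, ∀ x ∈ P, g * x * g⁻¹ ∈ (S : Subgroup G) := by
  obtain ⟨Q, hQ⟩ := hP.exists_le_sylow
  obtain ⟨g, hg⟩ := MulAction.exists_smul_eq G Q S
  refine ⟨g, fun x hx => ?_⟩
  rw [← hg, Sylow.coe_subgroup_smul]
  exact ⟨x, hQ hx, rfl⟩

/-- **Products inside a `p`-subgroup.** -/
theorem Cl.mul (hA : IsStronglyClosed A (S : Subgroup G)) {P : Subgroup G} (hP : IsPGroup p P) {x y : G}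
    (hxP : x ∈ P) (hyP : y ∈ P) (hx : Cl A x) (hy : Cl A y) : Cl A (x * y) := by
  obtain ⟨g, hg⟩ := exists_conj_le S hP
  have h1 := (hx.conj g).mem hA (hg x hxP)
  have h2 := (hy.conj g).mem hA (hg y hyP)
  refine ⟨g, ?_⟩
  have := A.mul_mem h1 h2
  simpa [mul_assoc] using this

/-- all the elements generated inside a `p`-subgroup -/
theorem Cl.closure (hA : IsStronglyClosed A (S : Subgroup G)) {P : Subgroup G} (hP : IsPGroup p P) {X : Set G}
    (hX : ∀ x ∈ X, x ∈ P ∧ Cl A x) {y : G} (hy : y ∈ Subgroup.closure X) : Cl A y := by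
  have hle : Subgroup.closure X ≤ P := (closure_le _).2 fun x hx => (hX x hx).1
  induction hy using closure_induction with
  | mem x hx => exact (hX x hx).2
  | one => exact cl_one
  | mul x y hx hy h1 h2 => exact Cl.mul hA hP (hle hx) (hle hy) h1 h2
  | inv x _ h => exact h.inv

omit hp [Finite G] in
/-- the strongly closed subgroup is everything if all elements of `S` are conjugate into it -/
theorem eq_of_cl (hA : IsStronglyClosed A (S : Subgroup G)) (h : ∀ x ∈ (S : Subgroup G), Cl A x) :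
    A = (S : Subgroup G) :=
  le_antisymm hA.1 fun x hx => (h x hx).mem hA hx

end sylow

section two

variable [Finite G] {S : Sylow 2 G} {A : Subgroup G}

omit [Finite G] in
/-- the subgroup generated by an involution and an inverted 2-element is a 2-group -/
theorem isPGroup_dihedral {t x : G} (ht : t * t = 1) {k : ℕ} (hx : x ^ 2 ^ k = 1) (h : t * x * t⁻¹ = x⁻¹) :
    IsPGroup 2 ↥(zpowers t ⊔ zpowers x : Subgroup G) := by
  have h2 : Fact (Nat.Prime 2) := ⟨Nat.prime_two⟩
  have hz : ∀ (y : G) (m : ℕ), y ^ 2 ^ m = 1 → IsPGroup 2 ↥(zpowers y) := by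
    rintro y m hy ⟨a, ha⟩
    obtain ⟨n, rfl⟩ := mem_zpowers_iff.1 ha
    refine ⟨m, Subtype.ext ?_⟩
    change (y ^ n) ^ 2 ^ m = 1
    rw [← zpow_natCast, ← zpow_mul, mul_comm, zpow_mul, zpow_natCast, hy, one_zpow]
  refine IsPGroup.to_sup_of_normal_right' (hz t 1 (by rw [pow_one, pow_two, ht])) (hz x k hx) ?_
  rw [zpowers_le, mem_normalizer_iff]
  have hti : t⁻¹ = t := inv_eq_of_mul_eq_one_right ht
  have key : ∀ a ∈ zpowers x, t * a * t⁻¹ ∈ zpowers x := by
    intro a ha
    obtain ⟨n, rfl⟩ := mem_zpowers_iff.1 ha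
    rw [← conj_zpow, h]
    exact zpow_mem (inv_mem (mem_zpowers x)) n
  intro a
  refine ⟨key a, fun ha => ?_⟩
  have := key _ ha
  rw [hti] at this
  have e : t * (t * a * t) * t = a := by
    rw [show t * (t * a * t) * t = (t * t) * a * (t * t) by group, ht, one_mul, mul_one]
  rwa [e] at this

/-- **The product of two involutions.** -/
theorem Cl.mul_invol (hA : IsStronglyClosed A (S : Subgroup G)) {t u : G} (ht : t * t = 1) (hu : u * u = 1) {k : ℕ}
    (h : (t * u) ^ 2 ^ k = 1) (h1 : Cl A t) (h2 : Cl A u) : Cl A (t * u) := by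
  have hp : Fact (Nat.Prime 2) := ⟨Nat.prime_two⟩
  have hti : t⁻¹ = t := inv_eq_of_mul_eq_one_right ht
  have hui : u⁻¹ = u := inv_eq_of_mul_eq_one_right hu
  have hinv : t * (t * u) * t⁻¹ = (t * u)⁻¹ := by
    rw [mul_inv_rev, hti, hui, ← mul_assoc t t u, ht, one_mul]
  have hP := isPGroup_dihedral ht h hinv
  refine Cl.mul hA hP ((le_sup_left : zpowers t ≤ _) (mem_zpowers t)) ?_ h1 h2
  have h3 : t * u ∈ zpowers t ⊔ zpowers (t * u) := (le_sup_right : zpowers (t * u) ≤ _) (mem_zpowers _)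
  have h4 : t ∈ zpowers t ⊔ zpowers (t * u) := (le_sup_left : zpowers t ≤ _) (mem_zpowers _)
  have := mul_mem (inv_mem h4) h3
  rwa [inv_mul_cancel_left] at this

/-- **A 2-element inverted by an involution.** -/
theorem Cl.of_inverted (hA : IsStronglyClosed A (S : Subgroup G)) {t x : G} (ht : t * t = 1)
    (hx : t * x * t⁻¹ = x⁻¹) {k : ℕ} (h : x ^ 2 ^ k = 1) (h1 : Cl A t) (h2 : Cl A (t * x)) : Cl A x := by
  have hti : t⁻¹ = t := inv_eq_of_mul_eq_one_right ht
  have hu : t * x * (t * x) = 1 := by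
    have : t * x * (t * x) = (t * x * t⁻¹) * x := by rw [hti]; group
    rw [this, hx, inv_mul_cancel]
  have e : t * (t * x) = x := by rw [← mul_assoc, ht, one_mul]
  have := Cl.mul_invol hA ht hu (k := k) (by rw [e]; exact h) h1 h2
  rwa [e] at this

/-- a nontrivial strongly closed subgroup contains an involution -/
theorem exists_involution (hA : IsStronglyClosed A (S : Subgroup G)) (h : A ≠ ⊥) :
    ∃ t ∈ A, t * t = 1 ∧ t ≠ 1 := by
  have hp : Fact (Nat.Prime 2) := ⟨Nat.prime_two⟩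
  have hA2 : IsPGroup 2 A := S.isPGroup'.to_le hA.1
  have : Nontrivial ↥A := (nontrivial_iff_ne_bot A).2 h
  obtain ⟨n, hn, hn'⟩ := hA2.nontrivial_iff_card.1 this
  obtain ⟨t, ht⟩ := exists_prime_orderOf_dvd_card' 2 (show 2 ∣ Nat.card A by rw [hn']; exact dvd_pow_self 2 hn.ne')
  refine ⟨t, t.2, ?_, ?_⟩
  · have h1 := pow_orderOf_eq_one t
    rw [ht, pow_two] at h1
    exact congrArg Subtype.val h1
  · intro h1
    have : t = 1 := Subtype.ext h1
    rw [this, orderOf_one] at ht
    omega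

end two

/-- The strongly closed subgroups of a Sylow 2-subgroup are trivial or the whole Sylow subgroup. -/
def ClosedRow (L : Type*) [Group L] : Prop :=
  ∀ (S : Sylow 2 L) (A : Subgroup L), IsStronglyClosed A (S : Subgroup L) → A = ⊥ ∨ A = (S : Subgroup L)

theorem ClosedRow.congr {L M : Type*} [Group L] [Group M] [Finite L] (e : L ≃* M) (h : ClosedRow L) : ClosedRow M := by
  have hp : Fact (Nat.Prime 2) := ⟨Nat.prime_two⟩
  have hM : Finite M := Finite.of_equiv L e.toEquiv
  intro S A hA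
  have hsur : Function.Surjective e.symm.toMonoidHom := e.symm.surjective
  obtain ⟨T, hT⟩ : ∃ T : Sylow 2 L, (T : Subgroup L) = (S : Subgroup M).map e.symm.toMonoidHom := by
    refine ⟨S.mapSurjective hsur, ?_⟩
    rw [Sylow.coe_mapSurjective]
  have hmm : ∀ B : Subgroup M, ∀ x : L, x ∈ B.map e.symm.toMonoidHom ↔ e x ∈ B := by
    intro B x
    constructor
    · rintro ⟨y, hy, rfl⟩
      change e (e.symm y) ∈ B
      rwa [e.apply_symm_apply]
    · intro hx
      exact ⟨e x, hx, e.symm_apply_apply x⟩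
  rcases h T (A.map e.symm.toMonoidHom) ⟨by rw [hT]; exact map_mono hA.1, fun x hx g hg => by
    rw [hT, hmm] at hg
    rw [hmm] at hx ⊢
    rw [map_mul, map_mul, map_inv] at hg ⊢
    exact hA.2 _ hx _ hg⟩ with h1 | h1
  · left
    exact (map_eq_bot_iff_of_injective _ e.symm.injective).1 h1
  · right
    rw [hT] at h1
    exact map_injective e.symm.injective h1

end Cfsg.Agent.ClosedTwo.Elem
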