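import Mathlib
import Cfsg.Prelude.Def_TwoFusion

/-!
Row formats for S1252 (helper39).

* `ClosedRow L` : every strongly closed 2-subgroup of `L` is trivial or a Sylow subgroup;
* `ClosedRowZ L` : ... or the centre of a Sylow subgroup;
* `ClosedRow.congr`, `ClosedRowZ.congr` : invariance under `MulEquiv`.
-/

set_option autoImplicit false

namespace Cfsg.Agent.ClosedTwo

open Subgroup

variable {L L' : Type*} [Group L] [Group L']

/-- Every strongly closed subgroup of a Sylow 2-subgroup is trivial or the Sylow subgroup. -/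
def ClosedRow (L : Type*) [Group L] : Prop :=
  ∀ (S : Sylow 2 L) (A : Subgroup L), IsStronglyClosed A (S : Subgroup L) → A = ⊥ ∨ A = (S : Subgroup L)

/-- Every strongly closed subgroup of a Sylow 2-subgroup is trivial, the centre, or the Sylow subgroup. -/
def ClosedRowZ (L : Type*) [Group L] : Prop :=
  ∀ (S : Sylow 2 L) (A : Subgroup L), IsStronglyClosed A (S : Subgroup L) →
    A = ⊥ ∨ A = (S : Subgroup L) ∨ A = (center (S : Subgroup L)).map (S : Subgroup L).subtype

theorem ClosedRow.z (h : ClosedRow L) : ClosedRowZ L := fun S A hA =>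
  (h S A hA).elim Or.inl fun h1 => Or.inr (Or.inl h1)

/-- Strong closure is invariant under isomorphisms. -/
theorem closed_map (e : L ≃* L') {A S : Subgroup L} (h : IsStronglyClosed A S) :
    IsStronglyClosed (A.map e.toMonoidHom) (S.map e.toMonoidHom) := by
  refine ⟨Subgroup.map_mono h.1, ?_⟩
  rintro _ ⟨x, hx, rfl⟩ g hg
  obtain ⟨k, rfl⟩ := e.surjective g
  have e1 : e k * e.toMonoidHom x * (e k)⁻¹ = e.toMonoidHom (k * x * k⁻¹) := by simp
  rw [e1] at hg ⊢
  obtain ⟨y, hy, he⟩ := hg
  have hyx : y = k * x * k⁻¹ := e.injective he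
  exact ⟨_, h.2 x hx k (hyx ▸ hy), rfl⟩

theorem map_symm_map (e : L ≃* L') (A : Subgroup L) : (A.map e.toMonoidHom).map e.symm.toMonoidHom = A := by
  rw [Subgroup.map_map]
  have : e.symm.toMonoidHom.comp e.toMonoidHom = MonoidHom.id L := by ext x; simp
  rw [this, Subgroup.map_id]

theorem map_map_symm (e : L ≃* L') (A : Subgroup L') : (A.map e.symm.toMonoidHom).map e.toMonoidHom = A := by
  rw [Subgroup.map_map]
  have : e.toMonoidHom.comp e.symm.toMonoidHom = MonoidHom.id L' := by ext x; simp
  rw [this, Subgroup.map_id]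

/-- the transported Sylow subgroup -/
theorem exists_sylow_map [Finite L] (e : L ≃* L') (S : Sylow 2 L) :
    ∃ T : Sylow 2 L', (T : Subgroup L') = (S : Subgroup L).map e.toMonoidHom := by
  have h2 : Fact (Nat.Prime 2) := ⟨Nat.prime_two⟩
  have : Finite L' := Finite.of_equiv L e.toEquiv
  have h1 : IsPGroup 2 ((S : Subgroup L).map e.toMonoidHom) := S.2.map _
  obtain ⟨T, hT⟩ := h1.exists_le_sylow
  refine ⟨T, (le_antisymm ?_ hT)⟩
  have h3 : IsPGroup 2 ((T : Subgroup L').map e.symm.toMonoidHom) := T.2.map _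
  have h4 : (S : Subgroup L) ≤ (T : Subgroup L').map e.symm.toMonoidHom := by
    have := Subgroup.map_mono (f := e.symm.toMonoidHom) hT
    rwa [map_symm_map] at this
  have h5 := S.3 h3 h4
  have h6 := congrArg (Subgroup.map e.toMonoidHom) h5
  rw [map_map_symm e] at h6
  exact h6.le

theorem ClosedRow.congr [Finite L] (e : L ≃* L') (h : ClosedRow L) : ClosedRow L' := by
  intro S A hA
  have : Finite L' := Finite.of_equiv L e.toEquiv
  obtain ⟨T, hT⟩ := exists_sylow_map e.symm S
  have h1 := closed_map e.symm hA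
  rw [← hT] at h1
  rcases h T _ h1 with h2 | h2
  · left
    have h3 := congrArg (Subgroup.map e.toMonoidHom) h2
    rwa [map_map_symm e, Subgroup.map_bot] at h3
  · right
    have h3 := congrArg (Subgroup.map e.toMonoidHom) h2
    rwa [map_map_symm e, hT, map_map_symm e] at h3

/-- the centre of a subgroup, transported -/
theorem map_center (e : L ≃* L') {S : Subgroup L} {T : Subgroup L'} (hT : T = S.map e.toMonoidHom) :
    ((center S).map S.subtype).map e.toMonoidHom = (center T).map T.subtype := by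
  subst hT
  ext y
  constructor
  · rintro ⟨x, ⟨s, hs, rfl⟩, rfl⟩
    refine ⟨⟨e s, ⟨s, s.2, rfl⟩⟩, ?_, rfl⟩
    rw [SetLike.mem_coe, mem_center_iff]
    rintro ⟨_, t, ht, rfl⟩
    apply Subtype.ext
    have h1 := congrArg Subtype.val (mem_center_iff.1 hs ⟨t, ht⟩)
    have h2 : t * (s : L) = s * t := h1
    change e t * e s = e s * e t
    rw [← map_mul, ← map_mul, h2]
  · rintro ⟨⟨_, s, hs, rfl⟩, hz, rfl⟩
    refine ⟨s, ⟨⟨s, hs⟩, ?_, rfl⟩, rfl⟩
    rw [SetLike.mem_coe, mem_center_iff]
    rintro ⟨t, ht⟩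
    apply Subtype.ext
    have h1 := congrArg Subtype.val (mem_center_iff.1 hz ⟨e t, ⟨t, ht, rfl⟩⟩)
    have h2 : e t * e s = e s * e t := h1
    rw [← map_mul, ← map_mul] at h2
    exact e.injective h2

theorem ClosedRowZ.congr [Finite L] (e : L ≃* L') (h : ClosedRowZ L) : ClosedRowZ L' := by
  intro S A hA
  have : Finite L' := Finite.of_equiv L e.toEquiv
  obtain ⟨T, hT⟩ := exists_sylow_map e.symm S
  have h1 := closed_map e.symm hA
  rw [← hT] at h1
  rcases h T _ h1 with h2 | h2 | h2
  · left
    have h3 := congrArg (Subgroup.map e.toMonoidHom) h2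
    rwa [map_map_symm e, Subgroup.map_bot] at h3
  · right; left
    have h3 := congrArg (Subgroup.map e.toMonoidHom) h2
    rwa [map_map_symm e, hT, map_map_symm e] at h3
  · right; right
    have h3 := congrArg (Subgroup.map e.toMonoidHom) h2
    rw [map_map_symm e] at h3
    rw [h3]
    refine map_center e ?_
    rw [hT, map_map_symm e]

end Cfsg.Agent.ClosedTwo
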