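import Mathlib
import Cfsg.Agent.Nodes.NormalForm
import Cfsg.Agent.Nodes.FreeTorus

/-!
The torus of a root group datum generating the group is generated by the rank one tori
`TT x = ⟨X x, X (-x)⟩ ⊓ H` (helper39, S1252).

* `exists_m` : a representative of the simple reflection in `⟨X_i, X_{-i}⟩`;
* `HH_le` : the common normaliser of the root groups is contained in `T`;
* `torus_eq` : `T = TA`.
-/

set_option autoImplicit false
set_option linter.unusedSectionVars false

namespace Cfsg.Agent.ClosedTwo.Torus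

open CoxeterSystem Cfsg.Agent.ChevalleyStructure.CoxeterGeom Cfsg.Agent.Tits.Roots Cfsg.Agent.Tits.Core
  Cfsg.Agent.Nodes.Reps Cfsg.Agent.Nodes.BNOf Cfsg.Agent.Nodes.StabComb
  Cfsg.Agent.Nodes.Bruhat Cfsg.Agent.Nodes.OppDec Cfsg.Agent.Nodes.FreeTorus
open scoped commutatorElement

variable {I W Y : Type*} [Fintype I] [DecidableEq I] [Group W] [Group Y] {M : CoxeterMatrix I}
  {cs : CoxeterSystem M W} {A : I → I → ℤ} {h : IsCartan M A} {p : ℕ} {T : Subgroup Y} {n : I → Y}
  {X : (I → ℤ) → Subgroup Y}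

/-- A representative of the simple reflection in the rank one subgroup. -/
theorem exists_m (R : RGD cs h p T n X) (i : I) :
    ∃ m ∈ LL X (sr i), Rp cs R.nsys (cs.simple i) m := by
  obtain ⟨⟨u, hu⟩, hu1⟩ := (Subgroup.ne_bot_iff_exists_ne_one).1
    (X_ne_bot R ((isRoot_sr cs h i).neg))
  obtain ⟨a, ha, t, ht, b, hb, e⟩ := R.rk1 i u hu (fun h0 => hu1 (Subtype.ext h0))
  refine ⟨t * n i, ?_, ?_⟩
  · have h1 : t * n i = a⁻¹ * u * b⁻¹ := by rw [e]; group
    rw [h1]
    exact mul_mem (mul_mem (inv_mem (Subgroup.mem_sup_left ha)) (Subgroup.mem_sup_right hu))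
      (inv_mem (Subgroup.mem_sup_left hb))
  · have h1 := (rp_of_mem (cs := cs) (hN := R.nsys) ht).mul (rp_simple cs R.nsys i)
    rwa [one_mul] at h1

theorem acts_of_rp (R : RGD cs h p T n X) {w : W} {g : Y} (hg : Rp cs R.nsys w g) : Acts cs h X w g :=
  fun _ hx => R.conj_rp hg hx

/-- The common normaliser of the root groups is contained in the torus. -/
theorem HH_le [Finite W] (R : RGD cs h p T n X) (hG : GG cs h T X = ⊤) : HH cs h X ≤ T := by
  intro g hg
  have hg' := mem_HH.1 hg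
  have hfix : ∀ x, IsRoot cs h x → cj g (X x) = X x := fun x hx => by
    rw [hg' x hx, map_one, Module.End.one_apply]
  have hsup : ∀ S : Set (I → ℤ), (∀ x ∈ S, IsRoot cs h x) →
      g ∈ Subgroup.normalizer (RGD.Sup X S : Set Y) := by
    intro S hS
    rw [mem_normalizer_iff_cj, RGD.cj_Sup]
    exact iSup_congr fun z => hfix z.1 (hS z.1 z.2)
  have hB : g ∈ RGD.B cs h T X := by
    rw [← Cfsg.Agent.Nodes.NormalForm.normalizer_U R, hG, inf_top_eq]
    exact hsup _ fun x hx => hx.1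
  have hBN : g ∈ BN cs h T X := by
    obtain ⟨k, hk⟩ := exists_rp cs R.nsys (w0 cs)
    rw [← cj_B R hk]
    rw [mem_cj, ← Cfsg.Agent.Nodes.NormalForm.normalizer_U R, hG, inf_top_eq, mem_normalizer_iff_cj]
    rw [RGD.cj_Sup]
    refine iSup_congr ?_
    rintro ⟨z, hz⟩
    change cj (k⁻¹ * g * k) (X z) = X z
    rw [mul_assoc, cj_mul, cj_mul, R.conj_rp hk hz.1, hfix _ (hz.1.act _), ← R.conj_rp hk hz.1, cj_inv_cj]
  rw [← B_inf_BN R]
  exact ⟨hB, hBN⟩

variable [Finite W] [Finite Y]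

/-- Root group datum with the torus generated by the rank one tori. -/
theorem rgd_TA (R : RGD cs h p T n X) (hG : GG cs h T X = ⊤) {m : I → Y} (hm : ∀ i, m i ∈ LL X (sr i))
    (hr : ∀ i, Rp cs R.nsys (cs.simple i) (m i)) : RGD cs h p (TA cs h X) m X := by
  refine rgd_of_family hm (fun i => acts_of_rp R (hr i)) R.comm ?_ R.pgrp R.notp ?_
  · intro i u hu hu1
    obtain ⟨a, ha, t, ht, b, hb, e⟩ := R.rk1 i u hu hu1
    refine ⟨a, ha, t * n i, ?_, b, hb, by rw [e]; group, ?_⟩
    · have h1 : t * n i = a⁻¹ * u * b⁻¹ := by rw [e]; group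
      rw [h1]
      exact mul_mem (mul_mem (inv_mem (Subgroup.mem_sup_left ha)) (Subgroup.mem_sup_right hu))
        (inv_mem (Subgroup.mem_sup_left hb))
    · have h1 := (rp_of_mem (cs := cs) (hN := R.nsys) ht).mul (rp_simple cs R.nsys i)
      rw [one_mul] at h1
      exact acts_of_rp R h1
  · intro i
    exact Nat.Coprime.coprime_dvd_left (Subgroup.card_dvd_of_le (le_trans inf_le_right (HH_le R hG))) R.tcop

/-- **The torus is generated by the rank one tori.** -/
theorem torus_eq (R : RGD cs h p T n X) (hG : RGD.Sup X {x | IsRoot cs h x} = ⊤) : T = TA cs h X := by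
  have hGT : GG cs h T X = ⊤ := by
    rw [eq_top_iff, ← hG]
    exact le_sup_right
  have hGA : GG cs h (TA cs h X) X = ⊤ := by
    rw [eq_top_iff, ← hG]
    exact le_sup_right
  choose m hm hr using exists_m R
  have R' := rgd_TA R hGT hm hr
  apply le_antisymm
  · intro t ht
    have h1 : t ∈ RGD.B cs h T X := RGD.T_le_B ht
    rw [← Cfsg.Agent.Nodes.NormalForm.normalizer_U R, hGT, inf_top_eq] at h1
    have h2 : t ∈ RGD.B cs h (TA cs h X) X := by
      rw [← Cfsg.Agent.Nodes.NormalForm.normalizer_U R', hGA, inf_top_eq]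
      exact h1
    obtain ⟨s, hs, u, hu, e⟩ := R'.mem_B.1 h2
    have hsT : s ∈ T := HH_le R hGT (TA_le_HH hs)
    have h3 : u ∈ RGD.Sup X (RGD.Pos cs h) ⊓ T := by
      refine Subgroup.mem_inf.2 ⟨hu, ?_⟩
      have : u = s⁻¹ * t := by rw [e]; group
      rw [this]
      exact mul_mem (inv_mem hsT) ht
    rw [U_inf_T R, Subgroup.mem_bot] at h3
    rw [e, h3, mul_one]
    exact hs
  · exact le_trans TA_le_HH (HH_le R hGT)

end Cfsg.Agent.ClosedTwo.Torus
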