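import Cfsg.Agent.ClosedTwo.Elem

/-!
# Strongly closed 2-subgroups of alternating groups (helper5, S1252)

`closedRow : ClosedRow (alternatingGroup α)`.

* `exists_inverting` : every permutation is inverted by an involution preserving its orbits, and for a 2-element the
  parity of the involution can be prescribed (`exists_even_inverting`);
* a nontrivial strongly closed subgroup contains (up to conjugacy) a product of two disjoint transpositions, hence all
  involutions of the alternating group, hence all 2-elements.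
-/

set_option autoImplicit false

namespace Cfsg.Agent.ClosedTwo.Alt

open Equiv Equiv.Perm Subgroup Cfsg Cfsg.Agent.ClosedTwo.Elem

variable {α : Type*} [Fintype α] [DecidableEq α]

omit [Fintype α] [DecidableEq α] in
/-- Every permutation is inverted by an involution which preserves the orbits. -/
theorem exists_inverting (x : Perm α) : ∃ t : Perm α, t * t = 1 ∧ t * x * t⁻¹ = x⁻¹ ∧ ∀ y, SameCycle x y (t y) := by
  classical
  let s := SameCycle.setoid x
  let r : α → α := fun y => Quotient.out (Quotient.mk s y)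
  have hr : ∀ y, SameCycle x (r y) y := fun y => Quotient.mk_out (s := s) y
  have hrr : ∀ y z, SameCycle x y z → r y = r z := fun y z h => by
    have : Quotient.mk s y = Quotient.mk s z := Quotient.sound (s := s) h
    simp only [r, this]
  choose k hk using hr
  let f : α → α := fun y => (x ^ (-(k y))) (r y)
  have hsame : ∀ y, SameCycle x y (f y) := fun y => by
    have h1 : SameCycle x (r y) y := ⟨k y, hk y⟩
    have h2 : SameCycle x (r y) (f y) := ⟨-(k y), rfl⟩
    exact h1.symm.trans h2
  have hkey : ∀ (y : α) (i : ℤ), (x ^ i) (r y) = y → (x ^ (-i)) (r y) = f y := by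
    intro y i hi
    have h1 : (x ^ i) (r y) = (x ^ (k y)) (r y) := hi.trans (hk y).symm
    have h2 : (x ^ (k y - i)) (r y) = r y := by
      rw [sub_eq_add_neg, add_comm, zpow_add, Perm.mul_apply, ← h1, ← Perm.mul_apply, ← zpow_add, neg_add_cancel,
        zpow_zero, Perm.one_apply]
    change (x ^ (-i)) (r y) = (x ^ (-(k y))) (r y)
    rw [show -i = -(k y) + (k y - i) by ring, zpow_add, Perm.mul_apply, h2]
  have hinv : Function.Involutive f := by
    intro y
    have h1 : r (f y) = r y := (hrr _ _ (hsame y)).symm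
    have h2 := hkey (f y) (-(k y)) (by rw [h1])
    rw [neg_neg, h1, hk] at h2
    exact h2.symm
  have hx : ∀ y, f (x y) = x⁻¹ (f y) := by
    intro y
    have h1 : r (x y) = r y := (hrr _ _ ⟨1, by rw [zpow_one]⟩).symm
    have h2 := hkey (x y) (k y + 1) (by
      rw [h1, add_comm, zpow_add, Perm.mul_apply, hk, zpow_one])
    rw [h1, neg_add, add_comm, zpow_add, Perm.mul_apply, zpow_neg_one] at h2
    exact h2.symm
  refine ⟨hinv.toPerm f, ?_, ?_, hsame⟩
  · ext y
    exact hinv y
  · ext y
    have h1 : (hinv.toPerm f) ((hinv.toPerm f)⁻¹ y) = y := Equiv.apply_symm_apply _ _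
    have h2 : f ((hinv.toPerm f)⁻¹ y) = y := h1
    change f (x ((hinv.toPerm f)⁻¹ y)) = x⁻¹ y
    rw [hx, h2]

/-- a nontrivial cycle of a 2-element is odd -/
theorem sign_cycleOf {x : Perm α} {k : ℕ} (hx : x ^ 2 ^ k = 1) {a : α} (ha : x a ≠ a) : sign (cycleOf x a) = -1 := by
  have h1 := isCycle_cycleOf x ha
  have h2 : orderOf (cycleOf x a) ∣ 2 ^ k := (orderOf_cycleOf_dvd_orderOf x a).trans (orderOf_dvd_of_pow_eq_one hx)
  obtain ⟨m, -, hm⟩ := (Nat.dvd_prime_pow Nat.prime_two).1 h2
  rw [h1.sign, ← h1.orderOf, hm]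
  have hm0 : m ≠ 0 := by
    rintro rfl
    rw [pow_zero, orderOf_eq_one_iff] at hm
    exact h1.ne_one hm
  have : Even (2 ^ m) := (Nat.even_pow' hm0).2 even_two
  rw [this.neg_one_pow]

/-- **An even involution inverting a 2-element.** -/
theorem exists_even_inverting (x : Perm α) {k : ℕ} (hx : x ^ 2 ^ k = 1) :
    ∃ t : Perm α, t * t = 1 ∧ t * x * t⁻¹ = x⁻¹ ∧ sign t = 1 := by
  by_cases h1 : x = 1
  · exact ⟨1, by simp, by simp [h1], by simp⟩
  obtain ⟨a, ha⟩ : ∃ a, x a ≠ a := by
    by_contra hcon
    push Not at hcon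
    exact h1 (Perm.ext hcon)
  obtain ⟨t, ht, htx, hts⟩ := exists_inverting x
  rcases Int.units_eq_one_or (sign t) with h | h
  · exact ⟨t, ht, htx, h⟩
  have hti : t⁻¹ = t := inv_eq_of_mul_eq_one_right ht
  set c := cycleOf x a with hc
  have hcx : c * x * c⁻¹ = x := by
    rw [mul_inv_eq_iff_eq_mul]
    ext y
    rw [Perm.mul_apply, Perm.mul_apply, hc, cycleOf_apply, cycleOf_apply]
    by_cases hy : SameCycle x a y
    · rw [if_pos (sameCycle_apply_right.2 hy), if_pos hy]
    · rw [if_neg (fun h => hy (sameCycle_apply_right.1 h)), if_neg hy]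
  have htc : t * c * t⁻¹ = c⁻¹ := by
    rw [hc, cycleOf_inv, hti]
    ext y
    rw [Perm.mul_apply, Perm.mul_apply, cycleOf_apply, cycleOf_apply]
    have hxy : t (x (t y)) = x⁻¹ y := by
      have := congrArg (fun g : Perm α => g y) htx
      rwa [hti] at this
    have htt : t (t y) = y := by
      have := congrArg (fun g : Perm α => g y) ht
      exact this
    by_cases hy : SameCycle x a y
    · rw [if_pos (hy.trans (hts y)), if_pos (sameCycle_inv.2 hy), hxy]
    · rw [if_neg (fun h => hy (h.trans (hts y).symm)), if_neg (fun h => hy (sameCycle_inv.1 h)), htt]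
  refine ⟨t * c, ?_, ?_, ?_⟩
  · calc t * c * (t * c) = (t * c * t⁻¹) * c := by rw [hti]; group
      _ = 1 := by rw [htc, inv_mul_cancel]
  · calc t * c * x * (t * c)⁻¹ = t * (c * x * c⁻¹) * t⁻¹ := by group
      _ = x⁻¹ := by rw [hcx, htx]
  · rw [Perm.sign_mul, h, hc, sign_cycleOf hx ha]
    decide

/-- two orbits of length 2 of an even involution -/
theorem exists_two_orbits {t : Perm α} (ht : t * t = 1) (h1 : t ≠ 1) (hs : sign t = 1) :
    ∃ a b, t a ≠ a ∧ t b ≠ b ∧ b ≠ a ∧ b ≠ t a := by
  have htt : ∀ y, t (t y) = y := fun y => congrArg (fun g : Perm α => g y) ht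
  obtain ⟨a, ha⟩ : ∃ a, t a ≠ a := by
    by_contra hcon
    push Not at hcon
    exact h1 (Perm.ext hcon)
  by_contra hcon
  push Not at hcon
  have h2 : t = swap a (t a) := by
    ext y
    by_cases hy : y = a
    · rw [hy, swap_apply_left]
    · by_cases hy' : y = t a
      · rw [hy', swap_apply_right, htt]
      · rw [swap_apply_of_ne_of_ne hy hy']
        by_contra hne
        exact hy' (hcon a y ha hne hy)
  rw [h2, sign_swap (Ne.symm ha)] at hs
  exact absurd hs (by decide)

section closed

variable {A : Subgroup (alternatingGroup α)}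

/-- `x` is even and conjugate in the alternating group to an element of `A` -/
def K (A : Subgroup (alternatingGroup α)) (x : Perm α) : Prop := ∃ h : x ∈ alternatingGroup α, Cl A ⟨x, h⟩

theorem K.sign {x : Perm α} (h : K A x) : sign x = 1 := mem_alternatingGroup.1 h.1

theorem K.one : K A 1 := ⟨one_mem _, cl_one⟩

theorem K.conj {x g : Perm α} (h : K A x) (hg : Perm.sign g = 1) : K A (g * x * g⁻¹) := by
  obtain ⟨hx, h⟩ := h
  have hg' : g ∈ alternatingGroup α := mem_alternatingGroup.2 hg
  exact ⟨mul_mem (mul_mem hg' hx) (inv_mem hg'), h.conj ⟨g, hg'⟩⟩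

/-- all conjugates in the symmetric group, if an odd element commutes with `x` -/
theorem K.conj_of_comm {x c : Perm α} (h : K A x) (hc : Perm.sign c = -1) (hcx : c * x * c⁻¹ = x) (g : Perm α) :
    K A (g * x * g⁻¹) := by
  rcases Int.units_eq_one_or (Perm.sign g) with h1 | h1
  · exact h.conj h1
  · have h2 := h.conj (g := g * c) (by rw [Perm.sign_mul, h1, hc]; decide)
    have e : g * c * x * (g * c)⁻¹ = g * (c * x * c⁻¹) * g⁻¹ := by group
    rwa [e, hcx] at h2

variable {S : Sylow 2 (alternatingGroup α)}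

theorem K.mul (hA : IsStronglyClosed A (S : Subgroup (alternatingGroup α))) {t u : Perm α} (ht : t * t = 1)
    (hu : u * u = 1) {k : ℕ} (h : (t * u) ^ 2 ^ k = 1) (h1 : K A t) (h2 : K A u) : K A (t * u) := by
  obtain ⟨ht', h1⟩ := h1
  obtain ⟨hu', h2⟩ := h2
  exact ⟨mul_mem ht' hu', Cl.mul_invol hA (t := ⟨t, ht'⟩) (u := ⟨u, hu'⟩) (Subtype.ext ht) (Subtype.ext hu) (k := k)
    (Subtype.ext h) h1 h2⟩

omit [Fintype α] in
theorem dt_comm {a b c d : α} (h : [a, b, c, d].Nodup) : swap a b * swap c d = swap c d * swap a b :=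
  (disjoint_swap_swap h).commute

omit [Fintype α] in
theorem dt_sq {a b c d : α} (h : [a, b, c, d].Nodup) : (swap a b * swap c d) * (swap a b * swap c d) = 1 := by
  rw [show (swap a b * swap c d) * (swap a b * swap c d) = swap a b * (swap c d * swap a b) * swap c d by group,
    ← dt_comm h, ← mul_assoc, swap_mul_self, one_mul, swap_mul_self]

theorem dt_cycleType {a b c d : α} (h : [a, b, c, d].Nodup) : (swap a b * swap c d).cycleType = {2, 2} := by
  have hab : a ≠ b := by
    intro e; subst e; simp at h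
  have hcd : c ≠ d := by
    intro e; subst e; simp at h
  rw [(disjoint_swap_swap h).cycleType_mul, (swap_isSwap_iff.2 hab).isCycle.cycleType,
    (swap_isSwap_iff.2 hcd).isCycle.cycleType, card_support_swap hab, card_support_swap hcd]
  rfl

/-- all the products of two disjoint transpositions -/
theorem K.all_dt {a b c d : α} (h : [a, b, c, d].Nodup) (hK : K A (swap a b * swap c d)) {a' b' c' d' : α}
    (h' : [a', b', c', d'].Nodup) : K A (swap a' b' * swap c' d') := by
  have hab : a ≠ b := by
    intro e; subst e; simp at h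
  have h1 : IsConj (swap a b * swap c d) (swap a' b' * swap c' d') := by
    rw [isConj_iff_cycleType_eq, dt_cycleType h, dt_cycleType h']
  obtain ⟨g, hg⟩ := isConj_iff.1 h1
  rw [← hg]
  refine hK.conj_of_comm (c := swap a b) (sign_swap hab) ?_ g
  rw [swap_inv, ← mul_assoc, swap_mul_self, one_mul, ← dt_comm h]

/-- a product of two disjoint transpositions -/
theorem exists_dt (hA : IsStronglyClosed A (S : Subgroup (alternatingGroup α))) {t : Perm α} (ht : t * t = 1)
    (h1 : t ≠ 1) (hK : K A t) : ∃ a b c d : α, [a, b, c, d].Nodup ∧ K A (swap a b * swap c d) := by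
  have htt : ∀ y, t (t y) = y := fun y => congrArg (fun g : Perm α => g y) ht
  have hti : t⁻¹ = t := inv_eq_of_mul_eq_one_right ht
  obtain ⟨a, b, ha, hb, hba, hbta⟩ := exists_two_orbits ht h1 hK.sign
  have hnd : [a, t b, t a, b].Nodup := by
    have h2 : a ≠ t b := fun e => hbta (by rw [e, htt])
    have h3 : t b ≠ t a := fun e => hba (t.injective e)
    simp only [List.nodup_cons, List.mem_cons, List.not_mem_nil, or_false, not_or, List.nodup_nil, and_true,
      not_false_eq_true]
    exact ⟨⟨h2, Ne.symm ha, Ne.symm hba⟩, ⟨h3, hb⟩, Ne.symm hbta⟩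
  refine ⟨a, t b, t a, b, hnd, ?_⟩
  have h2 : (swap (t a) b * swap a (t a)) * t * (swap (t a) b * swap a (t a))⁻¹ = swap (t a) b * t * (swap (t a) b)⁻¹ := by
    have h3 : t * swap a (t a) * t⁻¹ = swap a (t a) := by
      rw [← swap_apply_apply, htt, swap_comm]
    have h4 : swap a (t a) * t * (swap a (t a))⁻¹ = t := by
      rw [mul_inv_eq_iff_eq_mul] at h3 ⊢
      exact h3.symm
    rw [show (swap (t a) b * swap a (t a)) * t * (swap (t a) b * swap a (t a))⁻¹ =
      swap (t a) b * (swap a (t a) * t * (swap a (t a))⁻¹) * (swap (t a) b)⁻¹ by group, h4]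
  have h5 : K A (swap (t a) b * t * (swap (t a) b)⁻¹) := by
    rw [← h2]
    refine hK.conj ?_
    rw [Perm.sign_mul, sign_swap (Ne.symm hbta), sign_swap (Ne.symm ha)]
    decide
  have h6 : t * (swap (t a) b * t * (swap (t a) b)⁻¹) = swap a (t b) * swap (t a) b := by
    have h7 : t * swap (t a) b * t⁻¹ = swap a (t b) := by
      rw [← swap_apply_apply, htt]
    rw [← h7, hti, swap_inv]
    group
  rw [← h6]
  refine K.mul hA ht ?_ (k := 1) ?_ hK h5
  · rw [show swap (t a) b * t * (swap (t a) b)⁻¹ * (swap (t a) b * t * (swap (t a) b)⁻¹) =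
      swap (t a) b * (t * t) * (swap (t a) b)⁻¹ by group, ht]
    group
  · rw [h6, pow_one, pow_two]
    exact dt_sq hnd

/-- all the involutions -/
theorem all_invol (hA : IsStronglyClosed A (S : Subgroup (alternatingGroup α)))
    (hdt : ∀ a b c d : α, [a, b, c, d].Nodup → K A (swap a b * swap c d)) :
    ∀ (n : ℕ) (t : Perm α), t.support.card ≤ n → t * t = 1 → Perm.sign t = 1 → K A t := by
  intro n
  induction n with
  | zero =>
    intro t hn _ _
    have : t = 1 := by
      rw [← support_eq_empty_iff, ← Finset.card_eq_zero]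
      omega
    rw [this]
    exact K.one
  | succ n ih =>
    intro t hn ht hs
    by_cases h1 : t = 1
    · rw [h1]; exact K.one
    have htt : ∀ y, t (t y) = y := fun y => congrArg (fun g : Perm α => g y) ht
    have hti : t⁻¹ = t := inv_eq_of_mul_eq_one_right ht
    obtain ⟨a, b, ha, hb, hba, hbta⟩ := exists_two_orbits ht h1 hs
    have hnd : [a, t a, b, t b].Nodup := by
      have h2 : a ≠ t b := fun e => hbta (by rw [e, htt])
      have h3 : t a ≠ t b := fun e => hba (t.injective e).symm
      simp only [List.nodup_cons, List.mem_cons, List.not_mem_nil, or_false, not_or, List.nodup_nil, and_true,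
        not_false_eq_true]
      exact ⟨⟨Ne.symm ha, Ne.symm hba, h2⟩, ⟨Ne.symm hbta, h3⟩, Ne.symm hb⟩
    set u := swap a (t a) * swap b (t b) with hu
    have huu : u * u = 1 := dt_sq hnd
    have htu : t * u * t⁻¹ = u := by
      rw [hu, show t * (swap a (t a) * swap b (t b)) * t⁻¹ = (t * swap a (t a) * t⁻¹) * (t * swap b (t b) * t⁻¹) by
        group, ← swap_apply_apply, ← swap_apply_apply, htt, htt, swap_comm (t a) a, swap_comm (t b) b]
    have hw : (t * u) * (t * u) = 1 := by
      calc (t * u) * (t * u) = (t * u * t⁻¹) * u := by rw [hti]; group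
        _ = 1 := by rw [htu, huu]
    have hus : Perm.sign u = 1 := by
      rw [hu, Perm.sign_mul, sign_swap (Ne.symm ha), sign_swap (Ne.symm hb)]
      decide
    have hua : u a = t a := by
      rw [hu, Perm.mul_apply, swap_apply_of_ne_of_ne (Ne.symm hba) (fun e => hbta (by rw [e, htt])), swap_apply_left]
    have hsub : (t * u).support ⊂ t.support := by
      refine ⟨fun y hy => ?_, fun hle => ?_⟩
      · rw [mem_support] at hy ⊢
        intro hty
        apply hy
        have h2 : y ≠ a := fun e => ha (by rw [← e]; exact hty)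
        have h3 : y ≠ t a := fun e => ha (by rw [e, htt] at hty; exact hty.symm)
        have h4 : y ≠ b := fun e => hb (by rw [← e]; exact hty)
        have h5 : y ≠ t b := fun e => hb (by rw [e, htt] at hty; exact hty.symm)
        rw [Perm.mul_apply, hu, Perm.mul_apply, swap_apply_of_ne_of_ne h4 h5, swap_apply_of_ne_of_ne h2 h3, hty]
      · have h2 : a ∈ t.support := mem_support.2 ha
        have h3 := mem_support.1 (hle h2)
        apply h3
        rw [Perm.mul_apply, hua, htt]
    have hcard := Finset.card_lt_card hsub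
    have h2 := ih (t * u) (by omega) hw (by rw [Perm.sign_mul, hs, hus]; rfl)
    have e : t * u * u = t := by rw [mul_assoc, huu, mul_one]
    have h3 := K.mul hA hw huu (k := 1) (by rw [e, pow_one, pow_two, ht]) h2 (hdt _ _ _ _ hnd)
    rwa [e] at h3

end closed

/-- **Strongly closed 2-subgroups of alternating groups.** -/
theorem closedRow : ClosedRow (alternatingGroup α) := by
  intro S A hA
  by_cases h0 : A = ⊥
  · exact Or.inl h0
  right
  obtain ⟨t, htA, ht, ht1⟩ := exists_involution hA h0
  have htK : K A (t : Perm α) := ⟨t.2, cl_of_mem htA⟩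
  obtain ⟨a, b, c, d, hnd, hK⟩ := exists_dt hA (t := (t : Perm α)) (congrArg Subtype.val ht)
    (fun h => ht1 (Subtype.ext h)) htK
  have hall := all_invol hA (fun a' b' c' d' h' => hK.all_dt hnd h')
  refine eq_of_cl hA fun x hx => ?_
  obtain ⟨k, hk⟩ := S.isPGroup' ⟨x, hx⟩
  have hk' : x ^ 2 ^ k = 1 := congrArg Subtype.val hk
  have hkx : (x : Perm α) ^ 2 ^ k = 1 := congrArg Subtype.val hk'
  obtain ⟨s, hs, hsx, hss⟩ := exists_even_inverting (x : Perm α) hkx
  have hsi : s⁻¹ = s := inv_eq_of_mul_eq_one_right hs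
  have hxs : Perm.sign (x : Perm α) = 1 := mem_alternatingGroup.1 x.2
  have hu : s * (x : Perm α) * (s * x) = 1 := by
    calc s * (x : Perm α) * (s * x) = (s * x * s⁻¹) * x := by rw [hsi]; group
      _ = 1 := by rw [hsx, inv_mul_cancel]
  have h1 := hall _ s le_rfl hs hss
  have h2 := hall _ (s * (x : Perm α)) le_rfl hu (by rw [Perm.sign_mul, hss, hxs]; rfl)
  have e : s * (s * (x : Perm α)) = x := by rw [← mul_assoc, hs, one_mul]
  have h3 := K.mul hA hs hu (k := k) (by rw [e]; exact hkx) h1 h2
  rw [e] at h3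
  obtain ⟨h4, h5⟩ := h3
  exact h5

end Cfsg.Agent.ClosedTwo.Alt
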