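import Mathlib
import Cfsg.Prelude.Def_TwoFusion
import Cfsg.Agent.ClosedTwo.Row
import Cfsg.Agent.SylowL.CompFacts
import Cfsg.Agent.SignalizersComponents.Components

/-!
Strongly closed 2-subgroups and components of overgroups of a Sylow 2-subgroup (helper39, S1252).

* `Inp` : the two inputs, S1173 (`C_G(A)^∞ ⊲ G`) and `TwoFusion.ClosedCommutator.commutator_le`;
* `dich` : `A` strongly closed in `S ∈ Syl₂(X)`, `K` a component of `X` and `K/Z(K)` a row: `S ∩ K ≤ A` or `[A, K] = 1`;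
* `comp_le` : `X` an overgroup of a Sylow 2-subgroup `S` of the simple group `G`, `A ≠ 1`: `S ∩ K ≤ A`.
-/

set_option autoImplicit false
set_option linter.unusedSectionVars false

namespace Cfsg.Agent.ClosedTwo

open Subgroup Cfsg
open scoped commutatorElement
open Cfsg.Agent.SignalizersComponents Cfsg.Agent.SignalizersComponents.Components
open Cfsg.Agent.SylowL.CompFacts

universe u

/-- Commuting strongly closed subgroups (`TwoFusion.ClosedCommutator.commutator_le`). -/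
def Comm : Prop :=
  ∀ (G : Type u) [Group G] [Finite G] (P : Sylow 2 G) (A B : Subgroup G), A ⊓ B = ⊥ →
    IsStronglyClosed A (P : Subgroup G) → IsStronglyClosed B (P : Subgroup G) →
      ⁅normalClosure (A : Set G), normalClosure (B : Set G)⁆ ≤ oddCore G

/-- The perfect residual of the centralizer (S1173). -/
def Resid : Prop :=
  ∀ (G : Type u) [Group G] [Finite G], oddCore G = ⊥ → ∀ (S : Sylow 2 G) (T : Subgroup G),
    IsStronglyClosed T (S : Subgroup G) →
      ((⨅ n : ℕ, derivedSeries ↥(centralizer (T : Set G)) n).map (centralizer (T : Set G)).subtype).Normal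

section Dich

variable {X : Type u} [Group X] [Finite X] {S : Sylow 2 X} {A K : Subgroup X}

theorem closed_conj (hA : IsStronglyClosed A (S : Subgroup X)) {a s : X} (ha : a ∈ A) (hs : s ∈ (S : Subgroup X)) :
    s * a * s⁻¹ ∈ A := hA.2 a ha s (mul_mem (mul_mem hs (hA.1 ha)) (inv_mem hs))

/-- The Sylow 2-subgroup of a perfect subgroup is contained in `D` if `D` contains the commutators `[x, g]`. -/
theorem le_of_focal [Group.IsPerfect K] (P : Sylow 2 K) (hP : (P : Subgroup K) = (S : Subgroup X).subgroupOf K)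
    {D : Subgroup X} (h : ∀ x ∈ (S : Subgroup X) ⊓ K, ∀ g ∈ K, g * x⁻¹ * g⁻¹ ∈ (S : Subgroup X) →
      x * (g * x⁻¹ * g⁻¹) ∈ D) : (S : Subgroup X) ⊓ K ≤ D := by
  intro x hx
  obtain ⟨hxS, hxK⟩ := mem_inf.1 hx
  have h1 := Subgroup.commutator_inf_eq_focalSubgroup P
  rw [Group.IsPerfect.commutator_eq_top, top_inf_eq] at h1
  have h2 : (⟨x, hxK⟩ : K) ∈ (P : Subgroup K).focalSubgroup := by
    rw [← h1, hP]
    exact hxS
  have h3 : (P : Subgroup K).focalSubgroup ≤ D.subgroupOf K := by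
    rw [Subgroup.focalSubgroup_def, closure_le]
    rintro z ⟨hz, y, hy, g, rfl⟩
    rw [hP] at hy hz
    have hyS : (y : X) ∈ (S : Subgroup X) := hy
    have hzS : (y : X) * g * (y : X)⁻¹ * (g : X)⁻¹ ∈ (S : Subgroup X) := hz
    have e : (y : X) * ((g : X) * (y : X)⁻¹ * (g : X)⁻¹) = (y : X) * g * (y : X)⁻¹ * (g : X)⁻¹ := by group
    have h4 : (g : X) * (y : X)⁻¹ * (g : X)⁻¹ ∈ (S : Subgroup X) := by
      have := mul_mem (inv_mem hyS) hzS
      rwa [← e, inv_mul_cancel_left] at this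
    have h5 := h y (mem_inf.2 ⟨hyS, y.2⟩) g g.2 h4
    rw [e] at h5
    exact h5
  exact h3 h2

/-- `A` normalises `K` if `A ∩ K` is central in `K` and `S ∩ K` is not. -/
theorem norm_of_central (hA : IsStronglyClosed A (S : Subgroup X)) (hK : IsComponent K)
    (hc : ∀ a ∈ A ⊓ K, a ∈ centralizer (K : Set X)) {x0 : X} (hx0 : x0 ∈ (S : Subgroup X) ⊓ K)
    (hx0' : x0 ∉ centralizer (K : Set X)) : A ≤ normalizer (K : Set X) := by
  have hperf : Group.IsPerfect K := hK.2.1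
  obtain ⟨P, hP⟩ := exists_sylow S hK.1
  intro a ha
  have haS := hA.1 ha
  by_contra hno
  have hcomp : IsComponent (K.map (MulAut.conj a).toMonoidHom) := isComponent_conj a hK
  have hne : K ≠ K.map (MulAut.conj a).toMonoidHom := by
    intro h0
    apply hno
    rw [mem_normalizer_iff]
    intro k
    constructor
    · intro hk
      rw [h0]
      exact ⟨k, hk, rfl⟩
    · intro hk
      rw [h0] at hk
      obtain ⟨l, hl, he⟩ := hk
      have : l = k := by
        have h1 : a * l * a⁻¹ = a * k * a⁻¹ := he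
        simpa using h1
      exact this ▸ hl
  have hcomm := component_commutator_eq_bot_of_ne hK hcomp hne
  have hcm : ∀ k ∈ K, ∀ x ∈ K, k * (a * x * a⁻¹) = (a * x * a⁻¹) * k := by
    intro k hk x hx
    rw [← commutatorElement_eq_one_iff_mul_comm, ← mem_bot, ← hcomm]
    exact commutator_mem_commutator hk ⟨x, hx, rfl⟩
  refine hx0' ((le_of_focal (D := centralizer (K : Set X)) P hP ?_) hx0)
  intro x hx g hg hgx
  obtain ⟨hxS, hxK⟩ := mem_inf.1 hx
  -- `y = a x a⁻¹`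
  have h1 : a * x * a⁻¹ * x⁻¹ ∈ A := by
    rw [show a * x * a⁻¹ * x⁻¹ = a * (x * a⁻¹ * x⁻¹) by group]
    exact mul_mem ha (closed_conj hA (inv_mem ha) hxS)
  have h2 : g * (a * x * a⁻¹ * x⁻¹) * g⁻¹ = a * x * a⁻¹ * (g * x⁻¹ * g⁻¹) := by
    rw [show g * (a * x * a⁻¹ * x⁻¹) * g⁻¹ = g * (a * x * a⁻¹) * (x⁻¹ * g⁻¹) by group, hcm g hg x hxK]
    group
  have h3 : g * (a * x * a⁻¹ * x⁻¹) * g⁻¹ ∈ A := by
    refine hA.2 _ h1 g ?_
    rw [h2]
    exact mul_mem (mul_mem (mul_mem haS hxS) (inv_mem haS)) hgx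
  rw [h2] at h3
  have h4 : x * (g * x⁻¹ * g⁻¹) ∈ A := by
    have := mul_mem (inv_mem h1) h3
    rwa [show (a * x * a⁻¹ * x⁻¹)⁻¹ * (a * x * a⁻¹ * (g * x⁻¹ * g⁻¹)) = x * (g * x⁻¹ * g⁻¹) by group] at this
  exact hc _ (mem_inf.2 ⟨h4, mul_mem hxK (mul_mem (mul_mem hg (inv_mem hxK)) (inv_mem hg))⟩)

/-- If `A` normalises `K` and `A ∩ K` is central in `K` then `A` centralises `K`. -/
theorem cent_of_norm (hcc : Comm.{u}) (hA : IsStronglyClosed A (S : Subgroup X)) (hK : IsComponent K)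
    (hc : ∀ a ∈ A ⊓ K, a ∈ centralizer (K : Set X)) {x0 : X} (hx0 : x0 ∈ (S : Subgroup X) ⊓ K)
    (hx0' : x0 ∉ centralizer (K : Set X)) (hn : A ≤ normalizer (K : Set X)) : K ≤ centralizer (A : Set X) := by
  obtain ⟨T0, hT0⟩ := exists_sylow S hK.1
  have hperf : Group.IsPerfect K := hK.2.1
  -- the group `H = A K`
  have hKH : K ≤ A ⊔ K := le_sup_right
  have hAH : A ≤ A ⊔ K := le_sup_left
  have hKn : (K.subgroupOf (A ⊔ K)).Normal := by
    rw [normal_subgroupOf_iff_le_normalizer hKH]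
    exact sup_le hn le_normalizer
  -- a Sylow subgroup of `H`
  have hpS : IsPGroup 2 ((S : Subgroup X).subgroupOf (A ⊔ K)) := S.2.comap_subtype
  obtain ⟨P, hPle⟩ := hpS.exists_le_sylow
  have hP : (P : Subgroup ↥(A ⊔ K)) = (S : Subgroup X).subgroupOf (A ⊔ K) := by
    apply le_antisymm _ hPle
    intro x hx
    have hxH : (x : X) ∈ ((A ⊔ K : Subgroup X) : Set X) := x.2
    rw [Subgroup.coe_mul_of_left_le_normalizer_right _ _ hn, Set.mem_mul] at hxH
    obtain ⟨a, ha, k, hk, e⟩ := hxH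
    have haP : (⟨a, hAH ha⟩ : ↥(A ⊔ K)) ∈ (P : Subgroup ↥(A ⊔ K)) := hPle (hA.1 ha)
    have hkP : (⟨k, hKH hk⟩ : ↥(A ⊔ K)) ∈ (P : Subgroup ↥(A ⊔ K)) := by
      have h1 := mul_mem (inv_mem haP) hx
      have h2 : (⟨a, hAH ha⟩ : ↥(A ⊔ K))⁻¹ * x = ⟨k, hKH hk⟩ := by
        apply Subtype.ext
        change a⁻¹ * (x : X) = k
        rw [← e]; group
      rwa [h2] at h1
    -- `P ∩ K = T0`
    have h3 : IsPGroup 2 (((P : Subgroup ↥(A ⊔ K)).map (A ⊔ K).subtype).subgroupOf K) :=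
      (P.2.map _).comap_subtype
    have h4 : (T0 : Subgroup K) ≤ ((P : Subgroup ↥(A ⊔ K)).map (A ⊔ K).subtype).subgroupOf K := by
      rw [hT0]
      intro y hy
      have hyS : (y : X) ∈ (S : Subgroup X) := hy
      exact ⟨⟨y, hKH y.2⟩, hPle hyS, rfl⟩
    have h5 := T0.3 h3 h4
    have h6 : (⟨k, hk⟩ : K) ∈ ((P : Subgroup ↥(A ⊔ K)).map (A ⊔ K).subtype).subgroupOf K :=
      ⟨⟨k, hKH hk⟩, hkP, rfl⟩
    rw [h5, hT0] at h6
    have h7 : k ∈ (S : Subgroup X) := h6
    change (x : X) ∈ (S : Subgroup X)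
    rw [← e]
    exact mul_mem (hA.1 ha) h7
  -- the normal subgroup `Z(K)`
  have hZn : ((K ⊓ centralizer (K : Set X)).subgroupOf (A ⊔ K)).Normal := by
    constructor
    intro z hz g
    obtain ⟨hz1, hz2⟩ := mem_inf.1 (mem_subgroupOf.1 hz)
    have hg1 : g * z * g⁻¹ ∈ K.subgroupOf (A ⊔ K) := hKn.conj_mem z hz1 g
    refine mem_subgroupOf.2 (mem_inf.2 ⟨hg1, ?_⟩)
    rw [mem_centralizer_iff]
    intro k hk
    have hk' : g⁻¹ * ⟨k, hKH hk⟩ * g⁻¹⁻¹ ∈ K.subgroupOf (A ⊔ K) := hKn.conj_mem ⟨k, hKH hk⟩ hk g⁻¹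
    have hk2 : (g : X)⁻¹ * k * g ∈ K := by simpa using mem_subgroupOf.1 hk'
    have h1 := mem_centralizer_iff.1 hz2 _ hk2
    change k * ((g : X) * z * (g : X)⁻¹) = (g : X) * z * (g : X)⁻¹ * k
    calc k * ((g : X) * z * (g : X)⁻¹) = g * ((g : X)⁻¹ * k * g * z) * (g : X)⁻¹ := by group
      _ = g * (z * ((g : X)⁻¹ * k * g)) * (g : X)⁻¹ := by rw [h1]
      _ = _ := by group
  set Z := (K ⊓ centralizer (K : Set X)).subgroupOf (A ⊔ K) with hZ
  have hZmem : ∀ x : ↥(A ⊔ K), x ∈ Z ↔ (x : X) ∈ K ∧ (x : X) ∈ centralizer (K : Set X) := fun x => mem_inf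
  -- the two strongly closed subgroups
  have hA1 : IsStronglyClosed (A.subgroupOf (A ⊔ K)) (P : Subgroup ↥(A ⊔ K)) := by
    rw [hP]
    exact sc_subgroupOf _ hA
  have hT1 : IsStronglyClosed (K.subgroupOf (A ⊔ K) ⊓ (P : Subgroup ↥(A ⊔ K))) (P : Subgroup ↥(A ⊔ K)) := by
    refine ⟨inf_le_right, fun x hx g hg => mem_inf.2 ⟨hKn.conj_mem x (mem_inf.1 hx).1 g, hg⟩⟩
  have hA2 := S1250.result P _ hA1 Z
  have hT2 := S1250.result P _ hT1 Z
  have hQ := P.mapSurjective (QuotientGroup.mk'_surjective Z)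
  have hinf : (A.subgroupOf (A ⊔ K)).map (QuotientGroup.mk' Z) ⊓
      (K.subgroupOf (A ⊔ K) ⊓ (P : Subgroup ↥(A ⊔ K))).map (QuotientGroup.mk' Z) = ⊥ := by
    rw [eq_bot_iff]
    rintro _ ⟨⟨a, ha, rfl⟩, t, ht, he⟩
    rw [mem_bot, QuotientGroup.mk'_apply, QuotientGroup.eq_one_iff]
    have h1 : t⁻¹ * a ∈ Z := QuotientGroup.eq.1 he
    have htK : (t : X) ∈ K := (mem_inf.1 ht).1
    have h2 : (a : X) ∈ K := by
      have h3 : (t : X)⁻¹ * a ∈ K := ((hZmem _).1 h1).1
      have h4 := mul_mem htK h3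
      rwa [mul_inv_cancel_left] at h4
    exact (hZmem a).2 ⟨h2, hc _ (mem_inf.2 ⟨ha, h2⟩)⟩
  have hmain := hcc _ (P.mapSurjective (QuotientGroup.mk'_surjective Z)) _ _ hinf hA2 hT2
  -- `K` is contained in the normal closure of the image of `T`
  have hφ : ∀ (N : Subgroup (↥(A ⊔ K) ⧸ Z)) [N.Normal],
      ((N.comap (QuotientGroup.mk' Z)).comap (inclusion hKH)) = ⊤ ∨
        ((N.comap (QuotientGroup.mk' Z)).comap (inclusion hKH)) ≤ center K :=
    fun N _ => quasisimple_normal hK.2 _ inferInstance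
  have hx0S := (mem_inf.1 hx0).1
  have hx0K := (mem_inf.1 hx0).2
  have hKcl : ∀ k : K, QuotientGroup.mk' Z (inclusion hKH k) ∈
      normalClosure (((K.subgroupOf (A ⊔ K) ⊓ (P : Subgroup ↥(A ⊔ K))).map (QuotientGroup.mk' Z) :
        Subgroup (↥(A ⊔ K) ⧸ Z)) : Set (↥(A ⊔ K) ⧸ Z)) := by
    rcases hφ (normalClosure (((K.subgroupOf (A ⊔ K) ⊓ (P : Subgroup ↥(A ⊔ K))).map (QuotientGroup.mk' Z) :
        Subgroup (↥(A ⊔ K) ⧸ Z)) : Set (↥(A ⊔ K) ⧸ Z))) with h1 | h1
    · intro k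
      have h2 : k ∈ (⊤ : Subgroup K) := trivial
      rw [← h1] at h2
      exact h2
    · exfalso
      apply hx0'
      have h2 : (⟨x0, hx0K⟩ : K) ∈ center K := by
        apply h1
        refine subset_normalClosure ⟨⟨x0, hKH hx0K⟩, ?_, rfl⟩
        exact mem_inf.2 ⟨hx0K, by rw [hP]; exact hx0S⟩
      exact mem_center_iff_mem_centralizer.1 h2
  -- elements of `K` in the core
  have hodd : ((oddCore (↥(A ⊔ K) ⧸ Z)).comap (QuotientGroup.mk' Z)).comap (inclusion hKH) ≤ center K := by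
    rcases hφ (oddCore (↥(A ⊔ K) ⧸ Z)) with h1 | h1
    · exfalso
      have h2 : (⟨x0, hx0K⟩ : K) ∈ (⊤ : Subgroup K) := trivial
      rw [← h1] at h2
      have h3 : QuotientGroup.mk' Z (inclusion hKH ⟨x0, hx0K⟩) ∈ oddCore (↥(A ⊔ K) ⧸ Z) := h2
      obtain ⟨m, hm⟩ := S.2 ⟨x0, hx0S⟩
      have hm' : x0 ^ 2 ^ m = 1 := congrArg Subtype.val hm
      have h4 : orderOf (QuotientGroup.mk' Z (inclusion hKH ⟨x0, hx0K⟩)) ∣ 2 ^ m := by
        apply orderOf_dvd_of_pow_eq_one
        rw [← map_pow, ← map_pow]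
        have : (⟨x0, hx0K⟩ : K) ^ 2 ^ m = 1 := Subtype.ext hm'
        rw [this, map_one, map_one]
      have h5 : Nat.Coprime (Nat.card (oddCore (↥(A ⊔ K) ⧸ Z))) 2 := Cfsg.Agent.Lib.Cores.pPrimeCore_coprime 2
      have h6 : orderOf (QuotientGroup.mk' Z (inclusion hKH ⟨x0, hx0K⟩)) ∣ Nat.card (oddCore (↥(A ⊔ K) ⧸ Z)) :=
        Subgroup.orderOf_dvd_natCard _ h3
      have h7 : orderOf (QuotientGroup.mk' Z (inclusion hKH ⟨x0, hx0K⟩)) = 1 :=
        Nat.eq_one_of_dvd_coprimes (h5.pow_right m) h6 h4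
      rw [orderOf_eq_one_iff, QuotientGroup.mk'_apply, QuotientGroup.eq_one_iff, hZmem] at h7
      exact hx0' h7.2
    · exact h1
  -- the commutators
  have hcomm : ⁅A, K⁆ ≤ centralizer (K : Set X) := by
    rw [commutator_le]
    intro a ha k hk
    have h1 := commutator_mem_commutator (subset_normalClosure (s := (((A.subgroupOf (A ⊔ K)).map
      (QuotientGroup.mk' Z) : Subgroup (↥(A ⊔ K) ⧸ Z)) : Set (↥(A ⊔ K) ⧸ Z))) ⟨⟨a, hAH ha⟩, ha, rfl⟩)
      (hKcl ⟨k, hk⟩)
    have h2 := hmain h1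
    have h3 : ⁅a, k⁆ ∈ K := by
      rw [commutatorElement_def]
      exact mul_mem ((mem_normalizer_iff.1 (hn ha) k).1 hk) (inv_mem hk)
    have h4 : (⟨⁅a, k⁆, h3⟩ : K) ∈ ((oddCore (↥(A ⊔ K) ⧸ Z)).comap (QuotientGroup.mk' Z)).comap
        (inclusion hKH) := h2
    exact mem_center_iff_mem_centralizer.1 (hodd h4)
  have h5 : ⁅A, K⁆ = ⊥ := by
    refine commutator_eq_bot_of_commutator_commutator_eq_bot hperf ?_
    rw [commutator_eq_bot_iff_le_centralizer]
    exact hcomm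
  rw [commutator_comm, commutator_eq_bot_iff_le_centralizer] at h5
  exact h5

/-- **The dichotomy** for the components of `X`. -/
theorem dich (hcc : Comm.{u}) (hA : IsStronglyClosed A (S : Subgroup X)) (hK : IsComponent K)
    (hrow : ClosedRow (K ⧸ center K)) : (S : Subgroup X) ⊓ K ≤ A ∨ K ≤ centralizer (A : Set X) := by
  have hperf : Group.IsPerfect K := hK.2.1
  obtain ⟨P0, hP0⟩ := exists_sylow S hK.1
  obtain ⟨P, hP, hsc⟩ := exists_quot S hK.1
  rcases hrow P _ (hsc A hA) with h1 | h1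
  · -- `A ∩ K` is central
    have hc : ∀ a ∈ A ⊓ K, a ∈ centralizer (K : Set X) := by
      intro a ha
      obtain ⟨ha1, ha2⟩ := mem_inf.1 ha
      have h2 : QuotientGroup.mk' (center K) ⟨a, ha2⟩ ∈ (A.subgroupOf K).map (QuotientGroup.mk' (center K)) :=
        ⟨⟨a, ha2⟩, ha1, rfl⟩
      rw [h1, mem_bot, QuotientGroup.mk'_apply, QuotientGroup.eq_one_iff] at h2
      exact mem_center_iff_mem_centralizer.1 h2
    by_cases hT : (S : Subgroup X) ⊓ K ≤ centralizer (K : Set X)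
    · left
      refine le_of_focal P0 hP0 ?_
      intro x hx g hg _
      have h2 := mem_centralizer_iff.1 (hT hx) g hg
      have h3 : x * (g * x⁻¹ * g⁻¹) = 1 := by
        calc x * (g * x⁻¹ * g⁻¹) = x * g * x⁻¹ * g⁻¹ := by group
          _ = 1 := by rw [← h2]; group
      rw [h3]
      exact one_mem _
    · right
      obtain ⟨x0, hx0, hx0'⟩ := SetLike.not_le_iff_exists.1 hT
      exact cent_of_norm hcc hA hK hc hx0 hx0' (norm_of_central hA hK hc hx0 hx0')
  · left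
    refine le_of_focal P0 hP0 ?_
    intro x hx g hg hgx
    obtain ⟨hxS, hxK⟩ := mem_inf.1 hx
    have h2 : QuotientGroup.mk' (center K) ⟨x, hxK⟩ ∈ (A.subgroupOf K).map (QuotientGroup.mk' (center K)) := by
      rw [h1, hP]
      exact ⟨⟨x, hxK⟩, hxS, rfl⟩
    obtain ⟨b, hb, he⟩ := h2
    have hz : b⁻¹ * ⟨x, hxK⟩ ∈ center K := QuotientGroup.eq.1 he
    have hz' : (b : X)⁻¹ * x ∈ centralizer (K : Set X) := mem_center_iff_mem_centralizer.1 hz
    have hbA : (b : X) ∈ A := hb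
    obtain ⟨z, hzd⟩ : ∃ z, z = (b : X)⁻¹ * x := ⟨_, rfl⟩
    rw [← hzd] at hz'
    have hxbz : x = b * z := by rw [hzd]; group
    have hgz : g * z⁻¹ = z⁻¹ * g := mem_centralizer_iff.1 (inv_mem hz') g hg
    have hzS : z ∈ (S : Subgroup X) := by
      rw [hzd]
      exact mul_mem (inv_mem (hA.1 hbA)) hxS
    have h3 : g * x⁻¹ * g⁻¹ = z⁻¹ * (g * (b : X)⁻¹ * g⁻¹) := by
      rw [hxbz, mul_inv_rev, ← mul_assoc g, hgz]
      group
    have h4 : g * (b : X)⁻¹ * g⁻¹ ∈ (S : Subgroup X) := by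
      have := mul_mem hzS hgx
      rwa [h3, mul_inv_cancel_left] at this
    have h5 := hA.2 _ (inv_mem hbA) g h4
    have h6 : x * (g * x⁻¹ * g⁻¹) = b * (g * (b : X)⁻¹ * g⁻¹) := by
      rw [h3, hxbz]; group
    rw [h6]
    exact mul_mem hbA h5

end Dich

section Simple

variable {G : Type u} [Group G] [Finite G] [IsSimpleGroup G]

theorem center_eq_bot (hna : ¬ IsMulCommutative G) : center G = ⊥ := by
  rcases (inferInstance : (center G).Normal).eq_bot_or_eq_top with h1 | h1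
  · exact h1
  · exfalso
    apply hna
    constructor
    constructor
    intro a b
    have h2 : a ∈ center G := by rw [h1]; trivial
    exact (mem_center_iff.1 h2 b).symm

/-- The centraliser of a strongly closed subgroup `A ≠ 1` of a simple group contains no perfect subgroup. -/
theorem not_perfect_le (hres : Resid.{u}) (hna : ¬ IsMulCommutative G) (S : Sylow 2 G) {A : Subgroup G}
    (hA : IsStronglyClosed A (S : Subgroup G)) (hA1 : A ≠ ⊥) {K : Subgroup G} (hK : Group.IsPerfect K)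
    (hKA : K ≤ centralizer (A : Set G)) : K = ⊥ := by
  by_contra hK1
  have h2 : Fact (Nat.Prime 2) := ⟨Nat.prime_two⟩
  -- `O(G) = 1`
  have hO : oddCore G = ⊥ := by
    rcases (inferInstance : (oddCore G).Normal).eq_bot_or_eq_top with h1 | h1
    · exact h1
    · exfalso
      apply hA1
      rw [eq_bot_iff]
      intro a ha
      have h3 : Nat.Coprime (Nat.card (oddCore G)) 2 := Cfsg.Agent.Lib.Cores.pPrimeCore_coprime 2
      have h4 : orderOf a ∣ Nat.card (oddCore G) := Subgroup.orderOf_dvd_natCard _ (by rw [h1]; trivial)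
      obtain ⟨m, hm⟩ := S.2 ⟨a, hA.1 ha⟩
      have hm' : a ^ 2 ^ m = 1 := congrArg Subtype.val hm
      have h5 : orderOf a = 1 := Nat.eq_one_of_dvd_coprimes (h3.pow_right m) h4 (orderOf_dvd_of_pow_eq_one hm')
      exact mem_bot.2 (orderOf_eq_one_iff.1 h5)
  have hN := hres G hO S A hA
  set C := centralizer (A : Set G) with hC
  have hder : ∀ n : ℕ, K.subgroupOf C ≤ derivedSeries ↥C n := by
    intro n
    induction n with
    | zero => exact le_top
    | succ n ih =>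
      rw [derivedSeries_succ]
      have h3 : ⁅K.subgroupOf C, K.subgroupOf C⁆ = K.subgroupOf C := by
        have h4 : Group.IsPerfect (K.subgroupOf C) :=
          Group.IsPerfect.ofSurjective (f := (Subgroup.subgroupOfEquivOfLe hKA).symm.toMonoidHom)
            (Subgroup.subgroupOfEquivOfLe hKA).symm.surjective
        exact Subgroup.commutator_eq_self (H := K.subgroupOf C)
      rw [← h3]
      exact commutator_mono ih ih
  have hle : K ≤ (⨅ n : ℕ, derivedSeries ↥C n).map C.subtype := by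
    intro k hk
    refine ⟨⟨k, hKA hk⟩, ?_, rfl⟩
    exact (le_iInf hder) (mem_subgroupOf.2 hk)
  rcases hN.eq_bot_or_eq_top with h3 | h3
  · exact hK1 (le_bot_iff.1 (h3 ▸ hle))
  · apply hA1
    have h4 : C = ⊤ := by
      rw [eq_top_iff, ← h3]
      rintro _ ⟨c, -, rfl⟩
      exact c.2
    rw [eq_bot_iff, ← center_eq_bot hna]
    intro a ha
    rw [mem_center_iff]
    intro g
    have h5 : g ∈ C := by rw [h4]; trivial
    exact (mem_centralizer_iff.1 h5 a ha).symm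

/-- **Components of overgroups of a Sylow 2-subgroup.** -/
theorem comp_le (hcc : Comm.{u}) (hres : Resid.{u}) (hna : ¬ IsMulCommutative G) (S : Sylow 2 G) {A : Subgroup G}
    (hA : IsStronglyClosed A (S : Subgroup G)) (hA1 : A ≠ ⊥) {M K : Subgroup G} (hSM : (S : Subgroup G) ≤ M)
    (hKM : K ≤ M) (hK : IsComponent (K.subgroupOf M))
    (hrow : ClosedRow (↥(K.subgroupOf M) ⧸ center ↥(K.subgroupOf M))) : (S : Subgroup G) ⊓ K ≤ A := by
  have hperf : Group.IsPerfect K := by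
    have : Group.IsPerfect ↥(K.subgroupOf M) := hK.2.1
    exact Group.IsPerfect.ofSurjective (f := (Subgroup.subgroupOfEquivOfLe hKM).toMonoidHom)
      (Subgroup.subgroupOfEquivOfLe hKM).surjective
  have hAM : A ≤ M := le_trans hA.1 hSM
  have hA' : IsStronglyClosed (A.subgroupOf M) ((S.subtype hSM : Sylow 2 M) : Subgroup M) := by
    refine ⟨fun x hx => hA.1 hx, fun x hx g hg => hA.2 x hx g hg⟩
  rcases dich hcc hA' hK hrow with h1 | h1
  · intro x hx
    obtain ⟨hx1, hx2⟩ := mem_inf.1 hx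
    have h2 : (⟨x, hSM hx1⟩ : M) ∈ ((S.subtype hSM : Sylow 2 M) : Subgroup M) ⊓ K.subgroupOf M :=
      mem_inf.2 ⟨hx1, hx2⟩
    exact h1 h2
  · have h2 : K ≤ centralizer (A : Set G) := by
      intro k hk
      rw [mem_centralizer_iff]
      intro a ha
      have h3 := mem_centralizer_iff.1 (h1 (show (⟨k, hKM hk⟩ : M) ∈ K.subgroupOf M from hk)) ⟨a, hAM ha⟩ ha
      exact congrArg Subtype.val h3
    have h3 := not_perfect_le hres hna S hA hA1 hperf h2
    rw [h3, inf_bot_eq]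
    exact bot_le

end Simple

end Cfsg.Agent.ClosedTwo
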