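import Mathlib
import Cfsg.Prelude.Def_TwoFusion
import Cfsg.Agent.ClosedTwo.Torus
import Cfsg.Agent.KFacts.RgdCharP
import Cfsg.Prelude.Def_Involutions
import Cfsg.Agent.ClosedTwo.Row
import Cfsg.Agent.KFacts.RgdLieCharP
import Cfsg.Agent.LieRecognition.PSUThreeSylow
import Cfsg.Agent.ThreePrime.SzDataExists
import Cfsg.Agent.Classification.PSLTwoEvenSylow
import Cfsg.Agent.KFacts.TwF4.Irr
import Cfsg.Agent.KFacts.TwF4.SylU
import Cfsg.Agent.Lib.NormalAbelian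
import Cfsg.Prelude.Def_LieTypeChar
import Cfsg.Agent.ClosedRed.Defs

-- merged: Cfsg.Agent.ClosedTwo.Abs
section

/-!
Elementary facts for strongly closed subgroups of groups with a `BN`-pair (helper39, S1252).

* `comm_sub` : the elements `u` of `U` with `g u g⁻¹ u⁻¹ ∈ K`, `K` normal in `U`, form a subgroup;
* `eq_of_sup_commutator` : in a finite `p`-group `A ⊔ U' = U` implies `A = U` (for `A` normal in `U`);
* `cent` : the elements of a group centralising `V` modulo `K`.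
-/

set_option autoImplicit false

namespace Cfsg.Agent.ClosedTwo.Abs

variable {G : Type*} [Group G]

/-- `u ∈ U` with `g u g⁻¹ u⁻¹ ∈ K`. -/
def cs (U K : Subgroup G) (hK : ∀ u ∈ U, ∀ k ∈ K, u * k * u⁻¹ ∈ K) (g : G) : Subgroup G where
  carrier := {u | u ∈ U ∧ g * u * g⁻¹ * u⁻¹ ∈ K}
  mul_mem' := by
    rintro a b ⟨ha, ha'⟩ ⟨hb, hb'⟩
    refine ⟨mul_mem ha hb, ?_⟩
    have e : g * (a * b) * g⁻¹ * (a * b)⁻¹ = (g * a * g⁻¹ * a⁻¹) * (a * (g * b * g⁻¹ * b⁻¹) * a⁻¹) := by group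
    rw [e]
    exact mul_mem ha' (hK a ha _ hb')
  one_mem' := ⟨one_mem _, by simp⟩
  inv_mem' := by
    rintro a ⟨ha, ha'⟩
    refine ⟨inv_mem ha, ?_⟩
    have e : g * a⁻¹ * g⁻¹ * a⁻¹⁻¹ = a⁻¹ * (g * a * g⁻¹ * a⁻¹)⁻¹ * a⁻¹⁻¹ := by group
    rw [e]
    exact hK _ (inv_mem ha) _ (inv_mem ha')

theorem mem_cs {U K : Subgroup G} {hK : ∀ u ∈ U, ∀ k ∈ K, u * k * u⁻¹ ∈ K} {g u : G} :
    u ∈ cs U K hK g ↔ u ∈ U ∧ g * u * g⁻¹ * u⁻¹ ∈ K := Iff.rfl

/-- The elements normalising `V` and `K` and centralising `V` modulo `K`. -/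
def cent (V K : Subgroup G) : Subgroup G where
  carrier := {g | (∀ v, v ∈ V ↔ g * v * g⁻¹ ∈ V) ∧ (∀ k, k ∈ K ↔ g * k * g⁻¹ ∈ K) ∧
    ∀ v ∈ V, g * v * g⁻¹ * v⁻¹ ∈ K}
  mul_mem' := by
    rintro a b ⟨h1, h2, h3⟩ ⟨h4, h5, h6⟩
    refine ⟨fun v => ?_, fun k => ?_, fun v hv => ?_⟩
    · rw [h4, h1]
      have e : a * (b * v * b⁻¹) * a⁻¹ = a * b * v * (a * b)⁻¹ := by group
      rw [e]
    · rw [h5, h2]
      have e : a * (b * k * b⁻¹) * a⁻¹ = a * b * k * (a * b)⁻¹ := by group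
      rw [e]
    · have e : a * b * v * (a * b)⁻¹ * v⁻¹ = (a * (b * v * b⁻¹) * a⁻¹ * (b * v * b⁻¹)⁻¹) * (b * v * b⁻¹ * v⁻¹) := by
        group
      rw [e]
      exact mul_mem (h3 _ ((h4 v).1 hv)) (h6 v hv)
  one_mem' := by simp
  inv_mem' := by
    rintro a ⟨h1, h2, h3⟩
    refine ⟨fun v => ?_, fun k => ?_, fun v hv => ?_⟩
    · rw [h1 (a⁻¹ * v * a⁻¹⁻¹)]
      have e : a * (a⁻¹ * v * a⁻¹⁻¹) * a⁻¹ = v := by group
      rw [e]
    · rw [h2 (a⁻¹ * k * a⁻¹⁻¹)]
      have e : a * (a⁻¹ * k * a⁻¹⁻¹) * a⁻¹ = k := by group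
      rw [e]
    · have hw : a⁻¹ * v * a⁻¹⁻¹ ∈ V := by
        rw [h1 (a⁻¹ * v * a⁻¹⁻¹)]
        have e : a * (a⁻¹ * v * a⁻¹⁻¹) * a⁻¹ = v := by group
        rwa [e]
      have h4 := h3 _ hw
      have e : a⁻¹ * v * a⁻¹⁻¹ * v⁻¹ = (a * (a⁻¹ * v * a⁻¹⁻¹) * a⁻¹ * (a⁻¹ * v * a⁻¹⁻¹)⁻¹)⁻¹ := by group
      rw [e]
      exact inv_mem h4

theorem mem_cent {V K : Subgroup G} {g : G} : g ∈ cent V K ↔ (∀ v, v ∈ V ↔ g * v * g⁻¹ ∈ V) ∧
    (∀ k, k ∈ K ↔ g * k * g⁻¹ ∈ K) ∧ ∀ v ∈ V, g * v * g⁻¹ * v⁻¹ ∈ K := Iff.rfl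

/-- `cent` is invariant under elements normalising `V` and `K`. -/
theorem conj_mem_cent {V K : Subgroup G} {g c : G} (hg : g ∈ cent V K) (hV : ∀ v, v ∈ V ↔ c * v * c⁻¹ ∈ V)
    (hK : ∀ k, k ∈ K ↔ c * k * c⁻¹ ∈ K) : c * g * c⁻¹ ∈ cent V K := by
  obtain ⟨h1, h2, h3⟩ := hg
  refine ⟨fun v => ?_, fun k => ?_, fun v hv => ?_⟩
  · constructor
    · intro hv
      have h4 : c⁻¹ * v * c ∈ V := (hV _).2 (by rwa [show c * (c⁻¹ * v * c) * c⁻¹ = v by group])
      have h5 := (hV _).1 ((h1 _).1 h4)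
      rwa [show c * (g * (c⁻¹ * v * c) * g⁻¹) * c⁻¹ = c * g * c⁻¹ * v * (c * g * c⁻¹)⁻¹ by group] at h5
    · intro hv
      have h4 : c⁻¹ * (c * g * c⁻¹ * v * (c * g * c⁻¹)⁻¹) * c ∈ V := (hV _).2 (by
        rwa [show c * (c⁻¹ * (c * g * c⁻¹ * v * (c * g * c⁻¹)⁻¹) * c) * c⁻¹ =
          c * g * c⁻¹ * v * (c * g * c⁻¹)⁻¹ by group])
      rw [show c⁻¹ * (c * g * c⁻¹ * v * (c * g * c⁻¹)⁻¹) * c = g * (c⁻¹ * v * c) * g⁻¹ by group, ← h1] at h4
      have h5 := (hV _).1 h4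
      rwa [show c * (c⁻¹ * v * c) * c⁻¹ = v by group] at h5
  · constructor
    · intro hv
      have h4 : c⁻¹ * k * c ∈ K := (hK _).2 (by rwa [show c * (c⁻¹ * k * c) * c⁻¹ = k by group])
      have h5 := (hK _).1 ((h2 _).1 h4)
      rwa [show c * (g * (c⁻¹ * k * c) * g⁻¹) * c⁻¹ = c * g * c⁻¹ * k * (c * g * c⁻¹)⁻¹ by group] at h5
    · intro hv
      have h4 : c⁻¹ * (c * g * c⁻¹ * k * (c * g * c⁻¹)⁻¹) * c ∈ K := (hK _).2 (by
        rwa [show c * (c⁻¹ * (c * g * c⁻¹ * k * (c * g * c⁻¹)⁻¹) * c) * c⁻¹ =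
          c * g * c⁻¹ * k * (c * g * c⁻¹)⁻¹ by group])
      rw [show c⁻¹ * (c * g * c⁻¹ * k * (c * g * c⁻¹)⁻¹) * c = g * (c⁻¹ * k * c) * g⁻¹ by group, ← h2] at h4
      have h5 := (hK _).1 h4
      rwa [show c * (c⁻¹ * k * c) * c⁻¹ = k by group] at h5
  · have h4 : c⁻¹ * v * c ∈ V := (hV _).2 (by rwa [show c * (c⁻¹ * v * c) * c⁻¹ = v by group])
    have h5 := (hK _).1 (h3 _ h4)
    rwa [show c * (g * (c⁻¹ * v * c) * g⁻¹ * (c⁻¹ * v * c)⁻¹) * c⁻¹ =
      c * g * c⁻¹ * v * (c * g * c⁻¹)⁻¹ * v⁻¹ by group] at h5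

/-- In a finite `p`-group `A ⊔ U' = U` implies `A = U` for `A` normal. -/
theorem eq_top_of_sup_commutator {U : Type*} [Group U] [Finite U] {p : ℕ} [Fact p.Prime] (hU : IsPGroup p U)
    {A : Subgroup U} [A.Normal] (h : A ⊔ commutator U = ⊤) : A = ⊤ := by
  by_contra hne
  have hnt : Nontrivial (U ⧸ A) := by
    rw [← not_subsingleton_iff_nontrivial]
    intro hs
    refine hne (eq_top_iff.2 fun x _ => ?_)
    exact (QuotientGroup.eq_one_iff x).1 (Subsingleton.elim _ _)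
  have hp : IsPGroup p (U ⧸ A) := hU.to_quotient A
  have hnil : Group.IsNilpotent (U ⧸ A) := hp.isNilpotent
  have h1 := Group.IsSolvable.commutator_lt_top_of_nontrivial (U ⧸ A)
  apply h1.ne
  have h2 : (commutator U).map (QuotientGroup.mk' A) = ⊤ := by
    have h3 : (A ⊔ commutator U).map (QuotientGroup.mk' A) = ⊤ := by
      rw [h, Subgroup.map_top_of_surjective _ (QuotientGroup.mk'_surjective A)]
    rw [Subgroup.map_sup, QuotientGroup.map_mk'_self, bot_sup_eq] at h3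
    exact h3
  rw [← h2, commutator_def, commutator_def, Subgroup.map_commutator,
    Subgroup.map_top_of_surjective _ (QuotientGroup.mk'_surjective A)]

theorem eq_of_sup_commutator [Finite G] {p : ℕ} [Fact p.Prime] {U A : Subgroup G} (hU : IsPGroup p U)
    (hAU : A ≤ U) (hA : ∀ u ∈ U, ∀ a ∈ A, u * a * u⁻¹ ∈ A) (h : U ≤ A ⊔ ⁅U, U⁆) : A = U := by
  have hn : (A.subgroupOf U).Normal := ⟨fun a ha u => hA _ u.2 _ ha⟩
  have h1 : A.subgroupOf U ⊔ commutator U = ⊤ := by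
    apply Subgroup.map_injective U.subtype_injective
    rw [Subgroup.map_sup, Subgroup.map_subgroupOf_eq_of_le hAU, commutator_def, Subgroup.map_commutator,
      ← MonoidHom.range_eq_map, Subgroup.range_subtype]
    refine le_antisymm (sup_le hAU (Subgroup.commutator_le.2 fun a ha b hb => ?_)) h
    rw [commutatorElement_def]
    exact mul_mem (mul_mem (mul_mem ha hb) (inv_mem ha)) (inv_mem hb)
  have h2 := eq_top_of_sup_commutator hU h1
  exact le_antisymm hAU (Subgroup.subgroupOf_eq_top.1 h2)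

end Cfsg.Agent.ClosedTwo.Abs

end

-- merged: Cfsg.Agent.ClosedTwo.Rgd
section

/-!
Strongly closed subgroups of a Sylow `p`-subgroup `U` of a simple group with a root group datum of rank at least 2 in
characteristic `p` are trivial or equal to `U` (helper39, S1252).

Proof.  Let `D` be strongly closed in `U`, `D ≠ 1`.  As `D` is not normal, `D` is not contained in the radical
`V i` of some minimal parabolic.  If `D` is not in `V i` then the reflection `n i` centralises `V i` modulo `D`, up to an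
element of `B`; hence `U = D V j` for the neighbours `j` of `i`.  So `U = D V i` for all `i` and the rank one groups
centralise `V i` modulo `K = D U'`, the torus, generated by the rank one tori, centralises `U / K`, so the focal
subgroup lies in `K`.
-/

set_option autoImplicit false
set_option linter.unusedSectionVars false

namespace Cfsg.Agent.ClosedTwo.Rgd

open CoxeterSystem Cfsg.Agent.ChevalleyStructure.CoxeterGeom Cfsg.Agent.Tits.Roots Cfsg.Agent.Tits.Core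
  Cfsg.Agent.Nodes.Reps Cfsg.Agent.Nodes.BNOf Cfsg.Agent.Nodes.StabComb
  Cfsg.Agent.Nodes.Bruhat Cfsg.Agent.Nodes.OppDec Cfsg.Agent.Nodes.FreeTorus Cfsg.Agent.KFacts.RgdCharP
  Cfsg.Agent.ClosedTwo.Abs
open scoped commutatorElement

variable {I W Y : Type*} [Fintype I] [DecidableEq I] [Group W] [Group Y] {M : CoxeterMatrix I}
  {cs : CoxeterSystem M W} {A : I → I → ℤ} {h : IsCartan M A} {p : ℕ} {T : Subgroup Y} {n : I → Y}
  {X : (I → ℤ) → Subgroup Y}

/-- the maximal unipotent subgroup -/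
abbrev UU (cs : CoxeterSystem M W) (h : IsCartan M A) (X : (I → ℤ) → Subgroup Y) : Subgroup Y :=
  RGD.Sup X (RGD.Pos cs h)

/-- the radical of the minimal parabolic -/
abbrev VV (cs : CoxeterSystem M W) (h : IsCartan M A) (X : (I → ℤ) → Subgroup Y) (i : I) : Subgroup Y :=
  RGD.Sup X (RGD.PosNe cs h i)

/-- `D` is strongly closed in `U`. -/
structure Closed (cs : CoxeterSystem M W) (h : IsCartan M A) (X : (I → ℤ) → Subgroup Y) (D : Subgroup Y) : Prop where
  le : D ≤ UU cs h X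
  cl : ∀ x ∈ D, ∀ g : Y, g * x * g⁻¹ ∈ UU cs h X → g * x * g⁻¹ ∈ D

theorem VV_le (i : I) : VV cs h X i ≤ UU cs h X := RGD.Sup_mono fun _ hz => ⟨hz.1, hz.2.1⟩

theorem X_le_UU (i : I) : X (sr i) ≤ UU cs h X := RGD.le_Sup ⟨isRoot_sr cs h i, sr_nonneg i⟩

section

variable (R : RGD cs h p T n X)

include R

theorem U_norm_V (i : I) : UU cs h X ≤ Subgroup.normalizer (VV cs h X i : Set Y) := by
  unfold UU
  rw [R.Upos_eq i]
  exact sup_le (R.X_le_normalizer_V i) Subgroup.le_normalizer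

theorem B_norm_V (i : I) : RGD.B cs h T X ≤ Subgroup.normalizer (VV cs h X i : Set Y) :=
  sup_le (R.T_le_normalizer fun _ hx => hx.1) (U_norm_V R i)

theorem n_norm_V (i : I) : n i ∈ Subgroup.normalizer (VV cs h X i : Set Y) := by
  rw [mem_normalizer_iff_cj]
  exact R.cj_n_V i

variable {D : Subgroup Y} (hD : Closed cs h X D)

include hD

theorem B_conj {b x : Y} (hb : b ∈ RGD.B cs h T X) (hx : x ∈ D) : b * x * b⁻¹ ∈ D :=
  hD.cl x hx b ((Subgroup.mem_normalizer_iff.1 (R.B_le_normalizer_U hb) x).1 (hD.le hx))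

theorem B_norm_D : RGD.B cs h T X ≤ Subgroup.normalizer (D : Set Y) := by
  intro b hb
  rw [Subgroup.mem_normalizer_iff]
  intro x
  refine ⟨fun hx => B_conj R hD hb hx, fun hx => ?_⟩
  have h1 := B_conj R hD (inv_mem hb) hx
  rwa [show b⁻¹ * (b * x * b⁻¹) * b⁻¹⁻¹ = x by group] at h1

omit R in
theorem conj_mem_inf {i : I} {g x : Y} (hg : g ∈ Subgroup.normalizer (VV cs h X i : Set Y))
    (hx : x ∈ D ⊓ VV cs h X i) : g * x * g⁻¹ ∈ D ⊓ VV cs h X i := by
  obtain ⟨h1, h2⟩ := Subgroup.mem_inf.1 hx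
  have h3 := (Subgroup.mem_normalizer_iff.1 hg x).1 h2
  exact Subgroup.mem_inf.2 ⟨hD.cl x h1 g (VV_le i h3), h3⟩

omit R in
theorem norm_inf {i : I} {g : Y} (hg : g ∈ Subgroup.normalizer (VV cs h X i : Set Y)) (x : Y) :
    x ∈ D ⊓ VV cs h X i ↔ g * x * g⁻¹ ∈ D ⊓ VV cs h X i := by
  refine ⟨conj_mem_inf hD hg, fun hx => ?_⟩
  have h1 := conj_mem_inf hD (inv_mem hg) hx
  rwa [show g⁻¹ * (g * x * g⁻¹) * g⁻¹⁻¹ = x by group] at h1

/-- `D` centralises `V i` modulo `D ⊓ V i`. -/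
theorem D_le_cent (i : I) : D ≤ cent (VV cs h X i) (D ⊓ VV cs h X i) := by
  intro a ha
  have haN := U_norm_V R i (hD.le ha)
  rw [mem_cent]
  refine ⟨fun v => Subgroup.mem_normalizer_iff.1 haN v, norm_inf hD haN, fun v hv => ?_⟩
  refine Subgroup.mem_inf.2 ⟨?_, mul_mem ((Subgroup.mem_normalizer_iff.1 haN v).1 hv) (inv_mem hv)⟩
  rw [show a * v * a⁻¹ * v⁻¹ = a * (v * a⁻¹ * v⁻¹) by group]
  exact mul_mem ha (B_conj R hD (RGD.U_le_B (VV_le i hv)) (inv_mem ha))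

/-- The reflection centralises `V i` modulo `D`, up to an element of `B`. -/
theorem exists_d [Finite W] {i : I} (hi : ¬ D ≤ VV cs h X i) :
    ∃ d ∈ cent (VV cs h X i) (D ⊓ VV cs h X i), ∃ b ∈ RGD.B cs h T X, n i = d * b := by
  obtain ⟨a, ha, haV⟩ := SetLike.not_le_iff_exists.1 hi
  have haU := hD.le ha
  have h1 : a ∈ ((X (sr i) ⊔ VV cs h X i : Subgroup Y) : Set Y) := by
    rw [← R.Upos_eq i]
    exact haU
  rw [Subgroup.coe_mul_of_left_le_normalizer_right _ _ (R.X_le_normalizer_V i), Set.mem_mul] at h1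
  obtain ⟨x, hx, v, hv, e⟩ := h1
  have hx1 : x ≠ 1 := by
    rintro rfl
    rw [one_mul] at e
    exact haV (e ▸ hv)
  have hnN := n_norm_V R i
  have hu : n i * x * (n i)⁻¹ ∈ X (-sr i) := by
    have := R.conj_mem (rp_simple cs R.nsys i) (isRoot_sr cs h i) hx
    rwa [rep_simple_sr] at this
  have hu1 : n i * x * (n i)⁻¹ ≠ 1 := fun h0 => hx1 (by
    have : x = (n i)⁻¹ * (n i * x * (n i)⁻¹) * n i := by group
    rw [this, h0]; group)
  obtain ⟨a1, ha1, t, ht, b1, hb1, e1⟩ := R.rk1 i _ hu hu1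
  have hv' := (Subgroup.mem_normalizer_iff.1 hnN v).1 hv
  have hc : n i * a * (n i)⁻¹ ∈ cent (VV cs h X i) (D ⊓ VV cs h X i) :=
    conj_mem_cent (D_le_cent R hD i ha) (fun v => Subgroup.mem_normalizer_iff.1 hnN v) (norm_inf hD hnN)
  have hb2 : a1 * t ∈ RGD.B cs h T X := mul_mem (RGD.U_le_B (X_le_UU i ha1)) (RGD.T_le_B ht)
  have hb2N := B_norm_V R i (inv_mem hb2)
  refine ⟨(a1 * t)⁻¹ * (n i * a * (n i)⁻¹) * (a1 * t)⁻¹⁻¹,
    conj_mem_cent hc (fun v => Subgroup.mem_normalizer_iff.1 hb2N v) (norm_inf hD hb2N),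
    (a1 * t)⁻¹ * (b1 * (n i * v * (n i)⁻¹))⁻¹, mul_mem (inv_mem hb2) (inv_mem (mul_mem
      (RGD.U_le_B (X_le_UU i hb1)) (RGD.U_le_B (VV_le i hv')))), ?_⟩
  have e2 : n i * a * (n i)⁻¹ = a1 * t * n i * b1 * (n i * v * (n i)⁻¹) := by
    rw [← e1, ← e]; group
  rw [e2]
  group

/-- If `D` is not in `V i` and `j` is a neighbour of `i` then `U = D V j`. -/
theorem adj [Finite W] {i j : I} (hij : i ≠ j) (hm : M i j ≠ 2) (hi : ¬ D ≤ VV cs h X i) :
    UU cs h X ≤ D ⊔ VV cs h X j := by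
  obtain ⟨d, hd, b, hb, e⟩ := exists_d R hD hi
  have hjr := isRoot_sr cs h j
  have hji : (sr j : I → ℤ) ≠ sr i := by
    intro h0
    have := congrFun h0 j
    rw [sr_self, sr_ne (Ne.symm hij)] at this
    exact one_ne_zero this
  have hXV : X (sr j) ≤ VV cs h X i := RGD.le_Sup ⟨hjr, sr_nonneg j, hji⟩
  -- the image root
  have hroot : rep cs h (cs.simple i) (sr j) ∈ RGD.PosNe cs h j := by
    refine ⟨hjr.act _, hjr.simple_nonneg (sr_nonneg j) i hji, ?_⟩
    rw [rep_simple_eq]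
    intro h0
    have h1 := congrFun h0 i
    rw [Pi.sub_apply, Pi.smul_apply, sr_self, sr_ne hij] at h1
    have h2 : pairing A i (sr j : I → ℤ) = A i j := by
      unfold sr
      rw [pairing_single, mul_one]
    rw [h2] at h1
    have h3 := cartan_neg h hij hm
    simp at h1
    omega
  have hDN : RGD.B cs h T X ≤ Subgroup.normalizer ((D ⊔ VV cs h X j : Subgroup Y) : Set Y) := by
    intro y hy
    rw [mem_normalizer_iff_cj, cj_sup, mem_normalizer_iff_cj.1 (B_norm_D R hD hy),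
      mem_normalizer_iff_cj.1 (B_norm_V R j hy)]
  have key : ∀ x ∈ X (sr j), x ∈ D ⊔ VV cs h X j := by
    intro x hx
    have hy : b * x * b⁻¹ ∈ VV cs h X i := (Subgroup.mem_normalizer_iff.1 (B_norm_V R i hb) x).1 (hXV hx)
    have h1 := (mem_cent.1 hd).2.2 _ hy
    have h2 : n i * x * (n i)⁻¹ ∈ VV cs h X j :=
      RGD.le_Sup hroot (R.conj_mem (rp_simple cs R.nsys i) hjr hx)
    have h3 : b * x * b⁻¹ = (d * (b * x * b⁻¹) * d⁻¹ * (b * x * b⁻¹)⁻¹)⁻¹ * (n i * x * (n i)⁻¹) := by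
      rw [e]; group
    have h4 : b * x * b⁻¹ ∈ D ⊔ VV cs h X j := by
      rw [h3]
      exact mul_mem (inv_mem (Subgroup.mem_sup_left (Subgroup.mem_inf.1 h1).1)) (Subgroup.mem_sup_right h2)
    exact (Subgroup.mem_normalizer_iff.1 (hDN hb) x).2 h4
  unfold UU
  rw [R.Upos_eq j]
  exact sup_le key le_sup_right

variable [Finite W] [Finite Y] [IsSimpleGroup Y]

/-- If `D ≠ 1` then `U = D V j` for all `j`. -/
theorem all_sup [Nontrivial I] [Fact p.Prime] (hconn : Conn M) (hc : ∃ a b : Y, a * b ≠ b * a)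
    (hG : RGD.Sup X {x | IsRoot cs h x} = ⊤) (hD1 : D ≠ ⊥) (j : I) : UU cs h X ≤ D ⊔ VV cs h X j := by
  have hgen : RGD.B cs h T X ⊔ NN cs R.nsys = ⊤ := Cfsg.Agent.Nodes.RGDLib.rgd_gen_of_G1 R hG
  -- some `V i` does not contain `D`
  have h1 : ∃ i, ¬ D ≤ VV cs h X i := by
    by_contra hno
    push Not at hno
    have hn : ∀ i, n i ∈ Subgroup.normalizer (D : Set Y) := by
      intro i
      have hnN := n_norm_V R i
      rw [Subgroup.mem_normalizer_iff]
      intro x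
      have h2 := norm_inf hD hnN x
      rw [inf_eq_left.2 (hno i)] at h2
      exact h2
    have h2 : Subgroup.normalizer (D : Set Y) = ⊤ := by
      rw [eq_top_iff, ← hgen, NN_eq]
      refine sup_le (B_norm_D R hD) (sup_le (le_trans RGD.T_le_B (B_norm_D R hD)) ?_)
      rw [Subgroup.closure_le]
      rintro _ ⟨i, rfl⟩
      exact hn i
    rcases (Subgroup.normalizer_eq_top_iff.1 h2).eq_bot_or_eq_top with h3 | h3
    · exact hD1 h3
    · have h4 : IsPGroup p (⊤ : Subgroup Y) := h3 ▸ R.isPGroup_Upos.to_le hD.le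
      obtain ⟨a, b, hab⟩ := hc
      have h5 : IsPGroup p Y := h4.of_equiv Subgroup.topEquiv
      have h6 := h5.center_nontrivial
      have h7 : Subgroup.center Y = ⊥ := by
        rcases (inferInstance : (Subgroup.center Y).Normal).eq_bot_or_eq_top with h8 | h8
        · exact h8
        · exfalso
          have h9 : a ∈ Subgroup.center Y := by rw [h8]; trivial
          exact hab ((Subgroup.mem_center_iff.1 h9 b).symm)
      rw [h7] at h6
      exact not_nontrivial _ h6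
  obtain ⟨t, ht⟩ := h1
  have hnV : ∀ i, UU cs h X ≤ D ⊔ VV cs h X i → ¬ D ≤ VV cs h X i := by
    intro i h2 h3
    obtain ⟨u, hu, hu1⟩ := exists_ne_one R i
    apply hu1
    have h4 : u ∈ VV cs h X i := by
      have := h2 (X_le_UU i hu)
      rwa [sup_eq_right.2 h3] at this
    exact eq_one_of_mem_PosNe R hu h4
  have h2 : {i | ¬ D ≤ VV cs h X i} = Set.univ := by
    by_contra hne
    obtain ⟨a, ha, b, hb, hab⟩ := hconn {i | ¬ D ≤ VV cs h X i} ⟨t, ht⟩ hne
    have hab' : a ≠ b := fun h0 => hb (h0 ▸ ha)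
    exact hb (hnV b (adj R hD hab' hab ha))
  -- a neighbour of `j`
  obtain ⟨k, hk⟩ := exists_ne j
  obtain ⟨a, ha, b, hb, hab⟩ := hconn {i | i ≠ j} ⟨k, hk⟩ (fun h0 => by
    have : j ∈ {i | i ≠ j} := by rw [h0]; trivial
    exact this rfl)
  have hbj : b = j := by
    by_contra h0
    exact hb h0
  subst hbj
  refine adj R hD ha hab ?_
  have : a ∈ {i | ¬ D ≤ VV cs h X i} := by rw [h2]; trivial
  exact this

end

end Cfsg.Agent.ClosedTwo.Rgd

end

-- merged: Cfsg.Agent.ClosedTwo.RgdFoc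
section

/-!
The focal subgroup (helper39, S1252): if `U = D V i` for all `i` then `g u g⁻¹ ∈ u D U'` for all `u`, `g u g⁻¹ ∈ U`.
-/

set_option autoImplicit false
set_option linter.unusedSectionVars false

namespace Cfsg.Agent.ClosedTwo.Rgd

open CoxeterSystem Cfsg.Agent.ChevalleyStructure.CoxeterGeom Cfsg.Agent.Tits.Roots Cfsg.Agent.Tits.Core
  Cfsg.Agent.Nodes.Reps Cfsg.Agent.Nodes.BNOf Cfsg.Agent.Nodes.StabComb
  Cfsg.Agent.Nodes.Bruhat Cfsg.Agent.Nodes.OppDec Cfsg.Agent.Nodes.FreeTorus Cfsg.Agent.KFacts.RgdCharP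
  Cfsg.Agent.ClosedTwo.Abs
open scoped commutatorElement

variable {I W Y : Type*} [Fintype I] [DecidableEq I] [Group W] [Group Y] {M : CoxeterMatrix I}
  {cs : CoxeterSystem M W} {A : I → I → ℤ} {h : IsCartan M A} {p : ℕ} {T : Subgroup Y} {n : I → Y}
  {X : (I → ℤ) → Subgroup Y}

/-- conjugation invariance of `D0 ⊔ V'` -/
theorem conj_sup_comm {V D0 : Subgroup Y} {g : Y} (hV : ∀ v, v ∈ V ↔ g * v * g⁻¹ ∈ V)
    (hD : ∀ x, x ∈ D0 ↔ g * x * g⁻¹ ∈ D0) (k : Y) : k ∈ D0 ⊔ ⁅V, V⁆ ↔ g * k * g⁻¹ ∈ D0 ⊔ ⁅V, V⁆ := by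
  have h1 : g ∈ Subgroup.normalizer (V : Set Y) := Subgroup.mem_normalizer_iff.2 hV
  have h2 : g ∈ Subgroup.normalizer (D0 : Set Y) := Subgroup.mem_normalizer_iff.2 hD
  have h3 : g ∈ Subgroup.normalizer ((D0 ⊔ ⁅V, V⁆ : Subgroup Y) : Set Y) := by
    rw [mem_normalizer_iff_cj] at h1 h2 ⊢
    rw [cj_sup, h2]
    unfold cj at h1 ⊢
    rw [Subgroup.map_commutator, h1]
  exact Subgroup.mem_normalizer_iff.1 h3 k

/-- `V` centralises itself modulo `D0 ⊔ V'`. -/
theorem self_le_cent {V D0 H : Subgroup Y} (hVH : H ≤ V) (hD : ∀ g ∈ V, ∀ x, x ∈ D0 ↔ g * x * g⁻¹ ∈ D0) :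
    H ≤ cent V (D0 ⊔ ⁅V, V⁆) := by
  intro g hg
  have hgV := hVH hg
  have hV : ∀ v, v ∈ V ↔ g * v * g⁻¹ ∈ V := fun v =>
    Subgroup.mem_normalizer_iff.1 (Subgroup.le_normalizer hgV) v
  rw [mem_cent]
  refine ⟨hV, conj_sup_comm hV (hD g hgV), fun v hv => ?_⟩
  refine Subgroup.mem_sup_right ?_
  rw [← commutatorElement_def]
  exact Subgroup.commutator_mem_commutator hgV hv

theorem cent_mono_comm {V D0 : Subgroup Y} : cent V D0 ≤ cent V (D0 ⊔ ⁅V, V⁆) := by
  intro g hg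
  obtain ⟨h1, h2, h3⟩ := mem_cent.1 hg
  exact mem_cent.2 ⟨h1, conj_sup_comm h1 h2, fun v hv => Subgroup.mem_sup_left (h3 v hv)⟩

section

variable (R : RGD cs h p T n X) {D : Subgroup Y} (hD : Closed cs h X D)

include R hD

/-- the rank one group centralises `V i` modulo `D V i'` -/
theorem LL_le_cent {i : I} (hi : UU cs h X ≤ D ⊔ VV cs h X i) :
    LL X (sr i) ≤ cent (VV cs h X i) (D ⊓ VV cs h X i ⊔ ⁅VV cs h X i, VV cs h X i⁆) := by
  have hnN := n_norm_V R i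
  have h1 : UU cs h X ≤ cent (VV cs h X i) (D ⊓ VV cs h X i ⊔ ⁅VV cs h X i, VV cs h X i⁆) := by
    refine le_trans hi (sup_le (le_trans (D_le_cent R hD i) cent_mono_comm) ?_)
    exact self_le_cent le_rfl fun g hg x => norm_inf hD (Subgroup.le_normalizer hg) x
  unfold LL
  refine sup_le (le_trans (X_le_UU i) h1) ?_
  have h2 : cj (n i) (X (sr i)) = X (-sr i) := by
    rw [R.conj i _ (isRoot_sr cs h i), rep_simple_sr]
  rw [← h2]
  intro y hy
  rw [mem_cj] at hy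
  have h3 := conj_mem_cent (c := n i) (h1 (X_le_UU i hy)) (fun v => Subgroup.mem_normalizer_iff.1 hnN v)
    (conj_sup_comm (fun v => Subgroup.mem_normalizer_iff.1 hnN v) (norm_inf hD hnN))
  rwa [show n i * ((n i)⁻¹ * y * n i) * (n i)⁻¹ = y by group] at h3

/-- `K = D U'` -/
theorem K_conj {b : Y} (hb : b ∈ RGD.B cs h T X) (k : Y) :
    k ∈ D ⊔ ⁅UU cs h X, UU cs h X⁆ ↔ b * k * b⁻¹ ∈ D ⊔ ⁅UU cs h X, UU cs h X⁆ :=
  conj_sup_comm (fun v => Subgroup.mem_normalizer_iff.1 (R.B_le_normalizer_U hb) v)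
    (fun v => Subgroup.mem_normalizer_iff.1 (B_norm_D R hD hb) v) k

omit R hD in
theorem Ki_le (i : I) : D ⊓ VV cs h X i ⊔ ⁅VV cs h X i, VV cs h X i⁆ ≤ D ⊔ ⁅UU cs h X, UU cs h X⁆ :=
  sup_le_sup inf_le_left (Subgroup.commutator_mono (VV_le i) (VV_le i))

theorem U_le_cent : UU cs h X ≤ cent (UU cs h X) (D ⊔ ⁅UU cs h X, UU cs h X⁆) :=
  self_le_cent le_rfl fun _ hg x => Subgroup.mem_normalizer_iff.1 (B_norm_D R hD (RGD.U_le_B hg)) x

variable [Finite W] (hG : RGD.Sup X {x | IsRoot cs h x} = ⊤)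
  (hall : ∀ i, UU cs h X ≤ D ⊔ VV cs h X i)

include hG hall

/-- the rank one tori centralise `U` modulo `K` -/
theorem TT_le_cent (i : I) : TT cs h X (sr i) ≤ cent (UU cs h X) (D ⊔ ⁅UU cs h X, UU cs h X⁆) := by
  intro t ht
  have hGG : GG cs h T X = ⊤ := by
    rw [eq_top_iff, ← hG]
    exact le_sup_right
  obtain ⟨htL, htH⟩ := Subgroup.mem_inf.1 ht
  have htT : t ∈ T := Torus.HH_le R hGG htH
  have htB : t ∈ RGD.B cs h T X := RGD.T_le_B htT
  rw [mem_cent]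
  refine ⟨fun v => Subgroup.mem_normalizer_iff.1 (R.B_le_normalizer_U htB) v, K_conj R hD htB, ?_⟩
  have hUK : ∀ u ∈ UU cs h X, ∀ k ∈ D ⊔ ⁅UU cs h X, UU cs h X⁆,
      u * k * u⁻¹ ∈ D ⊔ ⁅UU cs h X, UU cs h X⁆ := fun u hu k hk => (K_conj R hD (RGD.U_le_B hu) k).1 hk
  have h1 : D ⊔ VV cs h X i ≤ Abs.cs (UU cs h X) (D ⊔ ⁅UU cs h X, UU cs h X⁆) hUK t := by
    refine sup_le (fun a ha => ?_) (fun v hv => ?_)
    · refine mem_cs.2 ⟨hD.le ha, Subgroup.mem_sup_left (mul_mem (B_conj R hD htB ha) (inv_mem ha))⟩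
    · refine mem_cs.2 ⟨VV_le i hv, Ki_le i ((mem_cent.1 (LL_le_cent R hD (hall i) htL)).2.2 v hv)⟩
  intro v hv
  exact (mem_cs.1 (h1 (hall i hv))).2

theorem TT_le_cent' {m : I → Y} (hm : ∀ i, m i ∈ LL X (sr i)) (hr : ∀ i, Rp cs R.nsys (cs.simple i) (m i))
    (w : W) (i : I) : TT cs h X (rep cs h w (sr i)) ≤ cent (UU cs h X) (D ⊔ ⁅UU cs h X, UU cs h X⁆) := by
  have hGG : GG cs h T X = ⊤ := by
    rw [eq_top_iff, ← hG]
    exact le_sup_right
  obtain ⟨ω, rfl⟩ := cs.wordProd_surjective w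
  induction ω with
  | nil =>
    rw [wordProd_nil, map_one, Module.End.one_apply]
    exact TT_le_cent R hD hG hall i
  | cons j ω ih =>
    set x := rep cs h (cs.wordProd ω) (sr i) with hx
    have hxr : IsRoot cs h x := ⟨_, _, rfl⟩
    rw [wordProd_cons, rep_mul_apply, ← hx, ← (Torus.acts_of_rp R (hr j)).cj_TT hxr]
    intro t ht
    rw [mem_cj] at ht
    set s := (m j)⁻¹ * t * m j with hs
    have e : t = m j * s * (m j)⁻¹ := by rw [hs]; group
    have hsT : s ∈ T := Torus.HH_le R hGG (Subgroup.mem_inf.1 ht).2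
    have hsm : m j * s * (m j)⁻¹ ∈ T :=
      (Subgroup.mem_normalizer_iff.1 (hr j).mem_normalizer s).1 hsT
    have h1 : m j * s * (m j)⁻¹ * s⁻¹ ∈ TT cs h X (sr j) := by
      refine Subgroup.mem_inf.2 ⟨?_, ?_⟩
      · have h2 : s * (m j)⁻¹ * s⁻¹ ∈ LL X (sr j) := by
          have h3 : cj s (LL X (sr j)) = LL X (sr j) := by
            unfold LL
            rw [cj_sup, R.tor _ (isRoot_sr cs h j) s hsT, R.tor _ (isRoot_sr cs h j).neg s hsT]
          rw [← h3]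
          exact conj_mem_cj.2 (inv_mem (hm j))
        rw [show m j * s * (m j)⁻¹ * s⁻¹ = m j * (s * (m j)⁻¹ * s⁻¹) by group]
        exact mul_mem (hm j) h2
      · rw [mem_HH]
        have h2 : m j * s * (m j)⁻¹ * s⁻¹ ∈ T := mul_mem hsm (inv_mem hsT)
        intro y hy
        rw [R.tor y hy _ h2, map_one, Module.End.one_apply]
    rw [e, show m j * s * (m j)⁻¹ = (m j * s * (m j)⁻¹ * s⁻¹) * s by group]
    exact mul_mem (TT_le_cent R hD hG hall j h1) (ih ht)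

/-- the Borel subgroup centralises `U` modulo `K` -/
theorem B_le_cent [Finite Y] : RGD.B cs h T X ≤ cent (UU cs h X) (D ⊔ ⁅UU cs h X, UU cs h X⁆) := by
  refine sup_le ?_ (U_le_cent R hD)
  choose m hm hr using Torus.exists_m R
  rw [Torus.torus_eq R hG]
  refine iSup_le ?_
  rintro ⟨x, w, i, rfl⟩
  exact TT_le_cent' R hD hG hall hm hr w i

/-- the chain -/
theorem chain [Finite Y] {m : I → Y} (hm : ∀ i, m i ∈ LL X (sr i)) (hr : ∀ i, Rp cs R.nsys (cs.simple i) (m i)) :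
    ∀ (N : ℕ) (w : W), cs.length w = N → ∀ k, Rp cs R.nsys w k → ∀ x ∈ PW cs h w, ∀ u ∈ X x,
      k * u * k⁻¹ * u⁻¹ ∈ D ⊔ ⁅UU cs h X, UU cs h X⁆ := by
  intro N
  induction N with
  | zero =>
    intro w hw k hk x hx u hu
    have hw1 : w = 1 := cs.length_eq_zero_iff.1 hw
    subst hw1
    have hkB : k ∈ RGD.B cs h T X := RGD.T_le_B hk.mem_of_one
    exact (mem_cent.1 (B_le_cent R hD hG hall hkB)).2.2 u (RGD.le_Sup (S := RGD.Pos cs h) ⟨hx.1, hx.2.1⟩ hu)
  | succ N ih =>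
    intro w hw k hk x hx u hu
    have hw1 : w ≠ 1 := by
      rintro rfl
      rw [cs.length_one] at hw
      omega
    obtain ⟨i, hi⟩ := cs.exists_leftDescent_of_ne_one hw1
    have hi' : cs.length (cs.simple i * w) < cs.length w := hi
    obtain ⟨w', hw'⟩ : ∃ w', w' = cs.simple i * w := ⟨_, rfl⟩
    have hww : w = cs.simple i * w' := by rw [hw', ← mul_assoc, simple_mul_simple_self, one_mul]
    have hlen : cs.length w' = N := by
      rcases cs.length_simple_mul w i with h1 | h1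
      · omega
      · rw [hw']; omega
    obtain ⟨k', hk'⟩ : ∃ k', k' = (m i)⁻¹ * k := ⟨_, rfl⟩
    have hkk : k = m i * k' := by rw [hk']; group
    have hk'2 : Rp cs R.nsys w' k' := by
      have := (hr i).inv.mul hk
      rwa [inv_simple, ← hk', ← hw'] at this
    -- the root `w' x`
    have hxr := hx.1
    have hx0 := hx.2.1
    have hwx := hx.2.2
    have hyr : IsRoot cs h (rep cs h w' x) := hxr.act w'
    have hwx' : 0 ≤ rep cs h (cs.simple i) (rep cs h w' x) := by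
      rw [← rep_mul_apply, ← hww]
      exact hwx
    have hyne : rep cs h w' x ≠ sr i := by
      intro h0
      rw [h0, rep_simple_sr] at hwx'
      exact (isRoot_sr cs h i).not_pos_neg (sr_nonneg i) (neg_nonneg.1 hwx')
    have hy0 : 0 ≤ rep cs h w' x := by
      rcases hyr.pos_or_neg with h1 | h1
      · exact h1
      · exfalso
        have h2 : -rep cs h w' x = sr i := by
          by_contra h3
          have h4 := hyr.neg.simple_nonneg (neg_nonneg.2 h1) i h3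
          rw [map_neg] at h4
          exact (hyr.act (cs.simple i)).not_pos_neg hwx' (neg_nonneg.1 h4)
        -- then `x = - w'⁻¹ α_i`
        have h3 : rep cs h w'⁻¹ (sr i) = -x := by
          rw [← h2, map_neg, rep_inv_apply]
        have h4 : 0 ≤ rep cs h w'⁻¹ (sr i) := by
          refine (lt_iff' cs h w'⁻¹ i).1 ?_
          have e1 : w'⁻¹ * cs.simple i = w⁻¹ := by
            rw [hww, mul_inv_rev, inv_simple]
          rw [e1, cs.length_inv, cs.length_inv]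
          omega
        rw [h3] at h4
        exact hxr.not_pos_neg hx0 (neg_nonneg.1 h4)
    have hu' := ih w' hlen k' hk'2 x ⟨hxr, hx0, hy0⟩ u hu
    have hyV : k' * u * k'⁻¹ ∈ VV cs h X i :=
      RGD.le_Sup (S := RGD.PosNe cs h i) ⟨hyr, hy0, hyne⟩ (R.conj_mem hk'2 hxr hu)
    have h5 := Ki_le (D := D) i ((mem_cent.1 (LL_le_cent R hD (hall i) (hm i))).2.2 _ hyV)
    rw [show k * u * k⁻¹ * u⁻¹ = (m i * (k' * u * k'⁻¹) * (m i)⁻¹ * (k' * u * k'⁻¹)⁻¹) * (k' * u * k'⁻¹ * u⁻¹) by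
      rw [hkk]; group]
    exact mul_mem h5 hu'

/-- fusion in `U` is trivial modulo `K` -/
theorem fusion [Finite Y] {u g : Y} (hu : u ∈ UU cs h X) (hg : g * u * g⁻¹ ∈ UU cs h X) :
    g * u * g⁻¹ * u⁻¹ ∈ D ⊔ ⁅UU cs h X, UU cs h X⁆ := by
  have hGG : GG cs h T X = ⊤ := by
    rw [eq_top_iff, ← hG]
    exact le_sup_right
  choose m hm hr using Torus.exists_m R
  have hUK : ∀ u ∈ UU cs h X, ∀ k ∈ D ⊔ ⁅UU cs h X, UU cs h X⁆,
      u * k * u⁻¹ ∈ D ⊔ ⁅UU cs h X, UU cs h X⁆ := fun u hu k hk => (K_conj R hD (RGD.U_le_B hu) k).1 hk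
  obtain ⟨w, b₁, hb₁, k, hk, b₂, hb₂, rfl⟩ := (mem_GG R (g := g)).1 (by rw [hGG]; trivial)
  have hB := B_le_cent R hD hG hall
  have hv : b₂ * u * b₂⁻¹ ∈ UU cs h X := (Subgroup.mem_normalizer_iff.1 (R.B_le_normalizer_U hb₂) u).1 hu
  obtain ⟨v, hvd⟩ : ∃ v, v = b₂ * u * b₂⁻¹ := ⟨_, rfl⟩
  rw [← hvd] at hv
  have hz : k * v * k⁻¹ ∈ UU cs h X := by
    have h1 := (Subgroup.mem_normalizer_iff.1 (R.B_le_normalizer_U (inv_mem hb₁)) _).1 hg
    rwa [show b₁⁻¹ * (b₁ * k * b₂ * u * (b₁ * k * b₂)⁻¹) * b₁⁻¹⁻¹ = k * v * k⁻¹ by rw [hvd]; group] at h1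
  have hvP : v ∈ RGD.Sup X (PW cs h w) := by
    have h1 := mem_PW_of_conj R hk.inv hv (by
      rw [inv_inv]
      exact RGD.U_le_B hz)
    rwa [inv_inv] at h1
  have h1 : RGD.Sup X (PW cs h w) ≤ Abs.cs (UU cs h X) (D ⊔ ⁅UU cs h X, UU cs h X⁆) hUK k := by
    refine RGD.Sup_le fun x hx u hu => ?_
    exact mem_cs.2 ⟨RGD.le_Sup (S := RGD.Pos cs h) ⟨hx.1, hx.2.1⟩ hu,
      chain R hD hG hall hm hr _ w rfl k hk x hx u hu⟩
  have h2 := (mem_cs.1 (h1 hvP)).2
  have h3 := (mem_cent.1 (hB hb₁)).2.2 _ hz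
  have h4 := (mem_cent.1 (hB hb₂)).2.2 u hu
  rw [← hvd] at h4
  rw [show b₁ * k * b₂ * u * (b₁ * k * b₂)⁻¹ * u⁻¹ = (b₁ * (k * v * k⁻¹) * b₁⁻¹ * (k * v * k⁻¹)⁻¹) *
    (k * v * k⁻¹ * v⁻¹) * (v * u⁻¹) by rw [hvd]; group]
  exact mul_mem (mul_mem h3 h2) h4

end

/-- **Strongly closed subgroups in simple groups of Lie type of rank at least 2, in the characteristic.** -/
theorem eq_U [Finite W] [Finite Y] [IsSimpleGroup Y] [Nontrivial I] [Fact p.Prime] (R : RGD cs h p T n X)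
    {D : Subgroup Y} (hD : Closed cs h X D) (hconn : Conn M) (hc : ∃ a b : Y, a * b ≠ b * a)
    (hG : RGD.Sup X {x | IsRoot cs h x} = ⊤) (hD1 : D ≠ ⊥) : D = UU cs h X := by
  have hall := all_sup R hD hconn hc hG hD1
  have hGG : GG cs h T X = ⊤ := by
    rw [eq_top_iff, ← hG]
    exact le_sup_right
  -- `U` is a Sylow subgroup
  obtain ⟨S, hS⟩ := R.isPGroup_Upos.exists_le_sylow
  have hSU : (S : Subgroup Y) = UU cs h X :=
    Cfsg.Agent.Nodes.NormalForm.eq_U_of_isPGroup R S.2 hS (by rw [hGG]; exact le_top)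
  have hperf : commutator Y = ⊤ := by
    rcases (inferInstance : (commutator Y).Normal).eq_bot_or_eq_top with h1 | h1
    · exfalso
      obtain ⟨a, b, hab⟩ := hc
      apply hab
      have h2 : ⁅a, b⁆ ∈ commutator Y := Subgroup.commutator_mem_commutator trivial trivial
      rw [h1, Subgroup.mem_bot, commutatorElement_eq_one_iff_mul_comm] at h2
      exact h2
    · exact h1
  refine eq_of_sup_commutator R.isPGroup_Upos hD.le
    (fun u hu a ha => B_conj R hD (RGD.U_le_B hu) ha) ?_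
  have h1 := Subgroup.commutator_inf_eq_focalSubgroup S
  rw [hperf, top_inf_eq, hSU] at h1
  intro y hy
  have h2 : y ∈ (UU cs h X).focalSubgroup := by rw [← h1]; exact hy
  have h3 : (UU cs h X).focalSubgroup ≤ D ⊔ ⁅UU cs h X, UU cs h X⁆ := by
    rw [Subgroup.focalSubgroup_def, Subgroup.closure_le]
    rintro z ⟨hz, x, hx, g, rfl⟩
    have hxi : g * x⁻¹ * g⁻¹ ∈ UU cs h X := by
      have h4 := mul_mem (inv_mem hx) hz
      rwa [commutatorElement_def, show x⁻¹ * (x * g * x⁻¹ * g⁻¹) = g * x⁻¹ * g⁻¹ by group] at h4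
    have h5 := fusion R hD hG hall (inv_mem hx) hxi
    have h6 := (K_conj R hD (RGD.U_le_B hx) _).1 h5
    rwa [show x * (g * x⁻¹ * g⁻¹ * x⁻¹⁻¹) * x⁻¹ = ⁅x, g⁆ by rw [commutatorElement_def]; group] at h6
  exact h3 h2

end Cfsg.Agent.ClosedTwo.Rgd

end

-- merged: Cfsg.Agent.ClosedTwo.Filt
section

/-!
Strongly closed 2-subgroups in simple groups of Lie type of characteristic 2 (helper39, S1252).

* `stronglyEmbedded_B` : a simple group with root group data of rank one in characteristic 2 has a strongly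
  embedded subgroup;
* `closedRow_of_filt` : `HasFilt 2 G` : `ClosedRow G` or `G` has a strongly embedded subgroup.
-/

set_option autoImplicit false
set_option linter.unusedSectionVars false

namespace Cfsg.Agent.ClosedTwo.Filt

open Cfsg.Agent.ClosedTwo Cfsg.Agent.ClosedTwo.Rgd
open Cfsg CoxeterSystem Cfsg.Agent.ChevalleyStructure.CoxeterGeom Cfsg.Agent.Tits.Roots
  Cfsg.Agent.Nodes.Reps Cfsg.Agent.Nodes.BNOf
  Cfsg.Agent.Nodes.Bruhat Cfsg.Agent.Nodes.OppDec Cfsg.Agent.Nodes.LeviDec Cfsg.Agent.Nodes.NormX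
  Cfsg.Agent.KFacts.RgdPar Cfsg.Agent.KFacts.RgdCent
  Cfsg.Agent.KFacts.RgdEx Cfsg.Agent.KFacts.RgdVJ Cfsg.Agent.KFacts.RgdCharP
  Cfsg.Agent.KFacts.RgdBorelTits Cfsg.Agent.KFacts.RgdFilt

variable {I W Y : Type*} [Fintype I] [DecidableEq I] [Group W] [Group Y] {M : CoxeterMatrix I}
  {cs : CoxeterSystem M W} {A : I → I → ℤ} {h : IsCartan M A} {p : ℕ} {T : Subgroup Y} {n : I → Y}
  {X : (I → ℤ) → Subgroup Y}

/-- rank one: the Weyl group -/
theorem w_rank_one (cs : CoxeterSystem M W) [Subsingleton I] (i : I) (w : W) : w = 1 ∨ w = cs.simple i := by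
  induction w using cs.simple_induction_left with
  | one => exact Or.inl rfl
  | mul_simple_left w k ih =>
    have hk : k = i := Subsingleton.elim _ _
    subst hk
    rcases ih with h1 | h1
    · right; rw [h1, mul_one]
    · left; rw [h1, cs.simple_mul_simple_self]

/-- rank one: `U` is the simple root group -/
theorem U_le_rank_one [Subsingleton I] (i : I) : UU cs h X ≤ X (sr i) := by
  refine RGD.Sup_le fun x hx => ?_
  obtain ⟨⟨w, j, rfl⟩, hx2⟩ := hx
  have hj : j = i := Subsingleton.elim _ _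
  subst hj
  rcases w_rank_one cs j w with rfl | rfl
  · rw [map_one, Module.End.one_apply]
  · exfalso
    rw [rep_simple_sr cs h j] at hx2
    have h2 := hx2 j
    simp [sr] at h2

section

variable [Finite W] [Finite Y] [Fact p.Prime] (R : RGD cs h p T n X)

include R

/-- `p`-elements of `B` lie in `U`. -/
theorem mem_U_of_B (hGG : GG cs h T X = ⊤) {x : Y} (hx : x ∈ RGD.B cs h T X)
    (hxp : IsPGroup p (Subgroup.zpowers x)) : x ∈ UU cs h X := by
  have hU : IsPGroup p (UU cs h X) := R.isPGroup_Upos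
  have h1 : Subgroup.zpowers x ≤ Subgroup.normalizer (UU cs h X : Set Y) := by
    rw [Subgroup.zpowers_le]
    exact R.B_le_normalizer_U hx
  have h2 := hU.to_sup_of_normal_left' hxp h1
  have h3 := Cfsg.Agent.Nodes.NormalForm.eq_U_of_isPGroup R h2 le_sup_left (by rw [hGG]; exact le_top)
  have h4 : x ∈ UU cs h X ⊔ Subgroup.zpowers x := (le_sup_right : Subgroup.zpowers x ≤ _) (Subgroup.mem_zpowers x)
  rw [h3] at h4
  exact h4

omit [Finite Y] [Fact p.Prime] in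
/-- rank one: `U` meets its other conjugates trivially -/
theorem mem_B_rank_one [Subsingleton I] [Nonempty I] (hGG : GG cs h T X = ⊤) {g u : Y} (hu : u ∈ UU cs h X) (hu1 : u ≠ 1)
    (hg : g * u * g⁻¹ ∈ UU cs h X) : g ∈ RGD.B cs h T X := by
  obtain ⟨i⟩ := (inferInstance : Nonempty I)
  obtain ⟨w, hw⟩ := (mem_GG R).1 (show g ∈ GG cs h T X by rw [hGG]; trivial)
  rcases w_rank_one cs i w with rfl | rfl
  · exact hw.mem_of_one
  · exfalso
    obtain ⟨b, hb, k, hk, b', hb', e⟩ := hw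
    have h1 : b' * u * b'⁻¹ ∈ UU cs h X := (Subgroup.mem_normalizer_iff.1 (R.B_le_normalizer_U hb') u).1 hu
    have h2 : b' * u * b'⁻¹ ≠ 1 := fun h0 => hu1 (by
      have : u = b'⁻¹ * (b' * u * b'⁻¹) * b' := by group
      rw [this, h0]; group)
    refine h2 (eq_one_of_conj_mem_B R (U_le_rank_one i h1) hk ?_)
    have h3 : b⁻¹ * (g * u * g⁻¹) * b⁻¹⁻¹ ∈ UU cs h X :=
      (Subgroup.mem_normalizer_iff.1 (R.B_le_normalizer_U (inv_mem hb)) _).1 hg
    have h4 : k * (b' * u * b'⁻¹) * k⁻¹ = b⁻¹ * (g * u * g⁻¹) * b⁻¹⁻¹ := by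
      rw [e]; group
    rw [h4]
    exact RGD.U_le_B h3

end

/-- **Rank one in characteristic 2**: the Borel subgroup is strongly embedded. -/
theorem stronglyEmbedded_B [Finite W] [Finite Y] [IsSimpleGroup Y] [Subsingleton I] [Nonempty I]
    (R : RGD cs h 2 T n X) (hc : ∃ a b : Y, a * b ≠ b * a) (hGG : GG cs h T X = ⊤) :
    IsStronglyEmbedded (RGD.B cs h T X) := by
  have : Fact (Nat.Prime 2) := ⟨Nat.prime_two⟩
  have hU : IsPGroup 2 (UU cs h X) := R.isPGroup_Upos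
  obtain ⟨i⟩ := (inferInstance : Nonempty I)
  have hU1 : UU cs h X ≠ ⊥ := by
    intro h0
    exact Nodes.Bruhat.X_ne_bot R (isRoot_sr cs h i) (eq_bot_iff.2 (h0 ▸ X_le_UU i))
  refine ⟨?_, ?_, ?_⟩
  · intro h0
    have h1 : (UU cs h X).Normal := by
      rw [← Subgroup.normalizer_eq_top_iff, eq_top_iff, ← h0]
      exact R.B_le_normalizer_U
    rcases h1.eq_bot_or_eq_top with h2 | h2
    · exact hU1 h2
    · have h3 : IsPGroup 2 Y := by
        have h4 : IsPGroup 2 (⊤ : Subgroup Y) := h2 ▸ hU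
        exact h4.of_equiv Subgroup.topEquiv
      have h5 := h3.center_nontrivial
      rw [KFacts.RgdLieCharP.center_eq_bot hc] at h5
      exact not_nontrivial _ h5
  · have h1 : Nat.card (UU cs h X) ∣ Nat.card (RGD.B cs h T X) := Subgroup.card_dvd_of_le RGD.U_le_B
    obtain ⟨k, hk⟩ := IsPGroup.iff_card.1 hU
    have hk0 : k ≠ 0 := by
      rintro rfl
      rw [pow_zero] at hk
      exact hU1 (Subgroup.eq_bot_of_card_eq _ hk)
    exact (even_iff_two_dvd.2 ((dvd_pow_self 2 hk0).trans (hk ▸ h1)))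
  · intro g hg
    by_contra hodd
    rw [Nat.not_odd_iff_even, even_iff_two_dvd] at hodd
    obtain ⟨x, hx⟩ := exists_prime_orderOf_dvd_card' 2 hodd
    have hxG : orderOf (x : Y) = 2 := by rw [Subgroup.orderOf_coe]; exact hx
    have hz : ∀ y : Y, orderOf y = 2 → IsPGroup 2 (Subgroup.zpowers y) := by
      intro y hy
      rw [IsPGroup.iff_card]
      exact ⟨1, by rw [Nat.card_zpowers, hy, pow_one]⟩
    obtain ⟨hx1, hx2⟩ := Subgroup.mem_inf.1 x.2
    obtain ⟨y, hy, e⟩ := hx2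
    have e' : g * y * g⁻¹ = (x : Y) := e
    have hyo : orderOf y = 2 := by
      have h1 : orderOf (MulAut.conj g y) = orderOf y := (MulAut.conj g).orderOf_eq y
      have h2 : MulAut.conj g y = (x : Y) := e
      rw [h2, hxG] at h1
      exact h1.symm
    have h1 := mem_U_of_B R hGG hx1 (hz _ hxG)
    have h2 := mem_U_of_B R hGG hy (hz _ hyo)
    apply hg
    refine mem_B_rank_one R hGG h2 ?_ (e' ▸ h1)
    rintro rfl
    rw [orderOf_one] at hyo
    exact absurd hyo (by decide)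

/-- The row from root group data of rank at least two. -/
theorem closedRow_of_rgd [Finite W] [Finite Y] [IsSimpleGroup Y] [Nontrivial I] (R : RGD cs h 2 T n X)
    (hconn : Conn M) (hc : ∃ a b : Y, a * b ≠ b * a) (hG : RGD.Sup X {x | IsRoot cs h x} = ⊤) : ClosedRow Y := by
  have : Fact (Nat.Prime 2) := ⟨Nat.prime_two⟩
  intro S D hD
  by_cases hD1 : D = ⊥
  · exact Or.inl hD1
  right
  have hGG : GG cs h T X = ⊤ := by
    rw [eq_top_iff, ← hG]
    exact le_sup_right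
  obtain ⟨S', hS'⟩ := R.isPGroup_Upos.exists_le_sylow
  have hSU : (S' : Subgroup Y) = UU cs h X :=
    Cfsg.Agent.Nodes.NormalForm.eq_U_of_isPGroup R S'.2 hS' (by rw [hGG]; exact le_top)
  obtain ⟨g, hg⟩ := MulAction.exists_smul_eq Y S S'
  have hgS : (S : Subgroup Y).map (MulAut.conj g).toMonoidHom = UU cs h X := by
    rw [← hSU, ← hg]
    rfl
  have h1 := closed_map (MulAut.conj g) hD
  rw [hgS] at h1
  have h2 : D.map (MulAut.conj g).toMonoidHom = UU cs h X := by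
    refine eq_U R ⟨h1.1, fun x hx k hk => h1.2 x hx k hk⟩ hconn hc hG fun h0 => hD1 ?_
    have h3 := congrArg (Subgroup.map (MulAut.conj g).symm.toMonoidHom) h0
    rwa [map_symm_map, Subgroup.map_bot] at h3
  rw [← hgS] at h2
  exact Subgroup.map_injective (MulAut.conj g).injective h2

/-- **Strongly closed 2-subgroups in simple groups of Lie type of characteristic 2.** -/
theorem closedRow_of_filt {G : Type*} [Group G] [Finite G] [IsSimpleGroup G] (hG : HasFilt 2 G)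
    (hc : ∃ a b : G, a * b ≠ b * a) : ClosedRow G ∨ ∃ H : Subgroup G, IsStronglyEmbedded H := by
  have : Fact (Nat.Prime 2) := ⟨Nat.prime_two⟩
  obtain ⟨l, M, A, h, T, n, X, R, hW, hBT, hGG, hN, hconn, hX, hl⟩ := hG.data hc
  by_cases hl1 : l = 1
  · subst hl1
    right
    exact ⟨_, stronglyEmbedded_B R hc hGG⟩
  · left
    have : Nontrivial (Fin l) := Fin.nontrivial_iff_two_le.2 (by omega)
    exact closedRow_of_rgd R hconn hc hX

end Cfsg.Agent.ClosedTwo.Filt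

end

-- merged: Cfsg.Agent.ClosedTwo.RankOne
section

/-!
Strongly closed 2-subgroups of `L₂(2^n)`, `Sz(q)` and `U₃(2^n)` (helper39, S1252).

* `row_psl` : `ClosedRow (PSL(2,F))`, `F` of characteristic 2;
* `rowZ_sz` : `ClosedRowZ J` for `J ≅ Sz(q)`;
* `rowZ_psu` : `ClosedRowZ (PSU 3 F (2^n))`, `n ≥ 2`.
-/

set_option autoImplicit false

namespace Cfsg.Agent.ClosedTwo.RankOne

open Cfsg Subgroup Cfsg.Agent.ClosedTwo
open scoped Matrix
open Cfsg.Agent.LieRecognition Cfsg.Agent.LieRecognition.HermHeis Cfsg.Agent.LieRecognition.PSUThreeSylow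

/-! ### reduction to one Sylow subgroup -/

theorem exists_conj {G : Type*} [Group G] [Finite G] (S Q : Sylow 2 G) :
    ∃ g : G, (S : Subgroup G).map (MulAut.conj g).toMonoidHom = (Q : Subgroup G) := by
  have : Fact (Nat.Prime 2) := ⟨Nat.prime_two⟩
  obtain ⟨g, hg⟩ := MulAction.exists_smul_eq G S Q
  exact ⟨g, by rw [← hg]; rfl⟩

theorem closedRowZ_of {G : Type*} [Group G] [Finite G] (Q : Sylow 2 G)
    (h : ∀ A : Subgroup G, IsStronglyClosed A (Q : Subgroup G) →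
      A = ⊥ ∨ A = (Q : Subgroup G) ∨ A = (center (Q : Subgroup G)).map (Q : Subgroup G).subtype) : ClosedRowZ G := by
  intro S A hA
  obtain ⟨g, hg⟩ := exists_conj S Q
  have h1 := closed_map (MulAut.conj g) hA
  rw [hg] at h1
  have hinj := Subgroup.map_injective (f := (MulAut.conj g).toMonoidHom) (MulAut.conj g).injective
  rcases h _ h1 with h2 | h2 | h2
  · left
    apply hinj
    rw [Subgroup.map_bot]
    exact h2
  · right; left
    apply hinj
    exact h2.trans hg.symm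
  · right; right
    apply hinj
    exact h2.trans (map_center (MulAut.conj g) hg.symm).symm

theorem closedRow_of {G : Type*} [Group G] [Finite G] (Q : Sylow 2 G)
    (h : ∀ A : Subgroup G, IsStronglyClosed A (Q : Subgroup G) → A = ⊥ ∨ A = (Q : Subgroup G)) : ClosedRow G := by
  intro S A hA
  obtain ⟨g, hg⟩ := exists_conj S Q
  have h1 := closed_map (MulAut.conj g) hA
  rw [hg] at h1
  have hinj := Subgroup.map_injective (f := (MulAut.conj g).toMonoidHom) (MulAut.conj g).injective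
  rcases h _ h1 with h2 | h2
  · left
    apply hinj
    rw [Subgroup.map_bot]
    exact h2
  · right
    apply hinj
    exact h2.trans hg.symm

/-- the centre of the range of an embedding -/
theorem center_range {H G : Type*} [Group H] [Group G] (f : H →* G) (hf : Function.Injective f) {Q : Subgroup G}
    (hQ : f.range = Q) : (center Q).map Q.subtype = (center H).map f := by
  subst hQ
  ext y
  constructor
  · rintro ⟨⟨_, x, rfl⟩, hx, rfl⟩
    refine ⟨x, ?_, rfl⟩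
    rw [SetLike.mem_coe, mem_center_iff] at hx ⊢
    intro z
    apply hf
    have h1 := congrArg Subtype.val (hx ⟨f z, z, rfl⟩)
    rw [map_mul, map_mul]
    exact h1
  · rintro ⟨x, hx, rfl⟩
    refine ⟨⟨f x, x, rfl⟩, ?_, rfl⟩
    rw [SetLike.mem_coe, mem_center_iff] at hx ⊢
    rintro ⟨_, z, rfl⟩
    apply Subtype.ext
    show f z * f x = f x * f z
    rw [← map_mul, ← map_mul, hx z]

/-- The row from a family of elements acting on the Sylow subgroup. -/
theorem rowZ_of_hom {H K G : Type*} [Group H] [Group K] [Group G] [Finite G] (ι : H →* K) (f : K →* G)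
    (hfi : Function.Injective (f.comp ι)) (Q : Sylow 2 G) (hQ : (f.comp ι).range = (Q : Subgroup G)) {I : Type*}
    (t : I → K) (τ : I → H → H) (ht : ∀ i x, t i * ι x = ι (τ i x) * t i)
    (hinv : ∀ A : Subgroup H, (∀ i, ∀ x ∈ A, τ i x ∈ A) → A = ⊥ ∨ A = ⊤ ∨ A = center H) : ClosedRowZ G := by
  refine closedRowZ_of Q fun A hA => ?_
  have hAQ : A ≤ (f.comp ι).range := hQ ▸ hA.1
  have hmap : (A.comap (f.comp ι)).map (f.comp ι) = A := by
    rw [Subgroup.map_comap_eq, inf_eq_right]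
    exact hAQ
  have h0 : ∀ i, ∀ x ∈ A.comap (f.comp ι), τ i x ∈ A.comap (f.comp ι) := by
    intro i x hx
    rw [Subgroup.mem_comap] at hx ⊢
    have h1 : f (t i) * (f.comp ι) x * (f (t i))⁻¹ = (f.comp ι) (τ i x) := by
      rw [mul_inv_eq_iff_eq_mul, MonoidHom.comp_apply, MonoidHom.comp_apply, ← map_mul, ← map_mul, ht]
    rw [← h1]
    refine hA.2 _ hx _ ?_
    rw [h1, ← hQ]
    exact ⟨_, rfl⟩
  rcases hinv _ h0 with h | h | h
  · left
    rw [← hmap, h, Subgroup.map_bot]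
  · right; left
    rw [← hmap, h, ← hQ, MonoidHom.range_eq_map]
  · right; right
    rw [← hmap, h]
    exact (center_range _ hfi hQ).symm

/-! ### the field -/

section Field

variable {F : Type*} [Field F] [Finite F] {σ : F →+* F}

/-- the torus acts on `S/Z(S)` through `t ↦ t² / σ t` -/
theorem add_eq_top (hσ : ∀ x, σ (σ x) = x) {q : ℕ} (hq : 4 ≤ q) (hF : Nat.card F = q ^ 2) (V : AddSubgroup F)
    (hV : V ≠ ⊥) (h : ∀ t : F, t ≠ 0 → ∀ v ∈ V, t ^ 2 * (σ t)⁻¹ * v ∈ V) : V = ⊤ := by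
  classical
  let K : Subfield F :=
    { carrier := {r | ∀ v ∈ V, r * v ∈ V}
      mul_mem' := by
        intro a b ha hb v hv
        rw [mul_assoc]
        exact ha _ (hb v hv)
      one_mem' := by
        intro v hv
        rwa [one_mul]
      add_mem' := by
        intro a b ha hb v hv
        rw [add_mul]
        exact V.add_mem (ha v hv) (hb v hv)
      zero_mem' := by
        intro v hv
        rw [zero_mul]
        exact V.zero_mem
      neg_mem' := by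
        intro a ha v hv
        rw [neg_mul]
        exact V.neg_mem (ha v hv)
      inv_mem' := by
        intro a ha
        rcases eq_or_ne a 0 with rfl | ha0
        · rwa [inv_zero]
        have hpow : ∀ k : ℕ, ∀ v ∈ V, a ^ k * v ∈ V := by
          intro k
          induction k with
          | zero => intro v hv; rwa [pow_zero, one_mul]
          | succ k ih =>
            intro v hv
            rw [pow_succ, mul_assoc]
            exact ih _ (ha v hv)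
        intro v hv
        have h1 : a ^ (Nat.card F - 1) = 1 := by
          let _ : Fintype F := Fintype.ofFinite F
          rw [Nat.card_eq_fintype_card]
          exact FiniteField.pow_card_sub_one_eq_one a ha0
        have h2 : a⁻¹ = a ^ (Nat.card F - 2) := by
          refine inv_eq_of_mul_eq_one_right ?_
          rw [← pow_succ', show Nat.card F - 2 + 1 = Nat.card F - 1 by
            have : 2 ≤ q ^ 2 := by nlinarith
            omega]
          exact h1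
        rw [h2]
        exact hpow _ v hv }
  have hK : ∀ t : F, t ≠ 0 → t ^ 2 * (σ t)⁻¹ ∈ K := fun t ht v hv => h t ht v hv
  -- the number of elements of `K`
  let g : Fˣ →* Fˣ :=
    { toFun := fun t => t ^ 2 * (Units.map (σ : F →* F) t)⁻¹
      map_one' := by simp
      map_mul' := by
        intro a b
        rw [mul_pow, map_mul, mul_inv]
        exact mul_mul_mul_comm _ _ _ _ }
  have hg : ∀ t : Fˣ, ((g t : Fˣ) : F) = (t : F) ^ 2 * (σ t)⁻¹ := by
    intro t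
    show (((t ^ 2 * (Units.map (σ : F →* F) t)⁻¹ : Fˣ)) : F) = _
    rw [Units.val_mul, Units.val_pow_eq_pow_val, Units.val_inv_eq_inv_val]
    rfl
  have hker : g.ker ≤ rootsOfUnity 3 F := by
    intro t ht
    have h1 : ((g t : Fˣ) : F) = 1 := by rw [MonoidHom.mem_ker.1 ht]; rfl
    rw [hg] at h1
    have h0 : σ (t : F) ≠ 0 := (map_ne_zero σ).2 t.ne_zero
    have h2 : (t : F) ^ 2 = σ t := by
      field_simp at h1
      exact h1
    have h3 : σ (t : F) ^ 2 = t := by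
      have := congrArg σ h2
      rwa [map_pow, hσ] at this
    have h4 : (t : F) ^ 4 = t := by
      calc (t : F) ^ 4 = ((t : F) ^ 2) ^ 2 := by ring
        _ = (t : F) := by rw [h2, h3]
    rw [mem_rootsOfUnity']
    have h5 : (t : F) * ((t : F) ^ 3 - 1) = 0 := by linear_combination h4
    rcases mul_eq_zero.1 h5 with h6 | h6
    · exact absurd h6 t.ne_zero
    · exact sub_eq_zero.1 h6
  have hker3 : Nat.card g.ker ≤ 3 := by
    have h1 : Nat.card g.ker ≤ Nat.card (rootsOfUnity 3 F) :=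
      Nat.card_le_card_of_injective (Subgroup.inclusion hker) (Subgroup.inclusion_injective hker)
    exact h1.trans (card_rootsOfUnity F 3)
  have hprod : Nat.card Fˣ = Nat.card g.range * Nat.card g.ker := by
    rw [Subgroup.card_eq_card_quotient_mul_card_subgroup g.ker,
      Nat.card_congr (QuotientGroup.quotientKerEquivRange g).toEquiv]
  have hU : Nat.card Fˣ = q ^ 2 - 1 := by rw [Nat.card_units, hF]
  have hrange : Nat.card g.range + 1 ≤ Nat.card K := by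
    have h1 : Nat.card (Option g.range) ≤ Nat.card K := by
      refine Nat.card_le_card_of_injective (fun o : Option g.range => (o.elim (0 : K) fun y =>
        ⟨((y : Fˣ) : F), by
          obtain ⟨_, t, rfl⟩ := y
          have := hK (t : F) t.ne_zero
          rwa [← hg] at this⟩)) ?_
      intro x y hxy
      rcases x with _ | x <;> rcases y with _ | y
      · rfl
      · exact absurd (congrArg Subtype.val hxy).symm (y : Fˣ).ne_zero
      · exact absurd (congrArg Subtype.val hxy) (x : Fˣ).ne_zero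
      · have h2 : ((x : Fˣ) : F) = ((y : Fˣ) : F) := congrArg Subtype.val hxy
        exact congrArg some (Subtype.ext (Units.ext h2))
    rwa [Finite.card_option] at h1
  have hpow : Nat.card F = Nat.card K ^ Module.finrank K F := Module.natCard_eq_pow_finrank
  have hKtop : K = ⊤ := by
    by_contra hne
    have h1 : Module.finrank K F ≠ 1 := by
      intro h1
      apply hne
      rw [h1, pow_one] at hpow
      have h2 : (K : Set F) = Set.univ := by
        refine Set.eq_of_subset_of_ncard_le (Set.subset_univ _) ?_ (Set.toFinite _)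
        rw [Set.ncard_univ, hpow, ← Nat.card_coe_set_eq]
        exact le_rfl
      ext x
      exact ⟨fun _ => trivial, fun _ => by
        have : x ∈ (K : Set F) := by rw [h2]; trivial
        exact this⟩
    have h0 : Module.finrank K F ≠ 0 := by
      intro h0
      rw [h0, pow_zero, hF] at hpow
      nlinarith
    have h2 : Nat.card K ^ 2 ≤ q ^ 2 := by
      rw [← hF, hpow]
      exact Nat.pow_le_pow_right Nat.card_pos (by omega)
    have h3 : Nat.card K ≤ q := (Nat.pow_le_pow_iff_left (by norm_num)).1 h2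
    have h4 : Nat.card g.range ≤ q - 1 := by omega
    have h5 : q ^ 2 - 1 ≤ (q - 1) * 3 := by
      rw [← hU, hprod]
      exact Nat.mul_le_mul h4 hker3
    obtain ⟨k, rfl⟩ : ∃ k, q = k + 4 := ⟨q - 4, by omega⟩
    have h6 : (k + 4) ^ 2 - 1 = k ^ 2 + 8 * k + 15 := by
      have : (k + 4) ^ 2 = k ^ 2 + 8 * k + 15 + 1 := by ring
      omega
    rw [h6] at h5
    have h7 : (k + 4 - 1) * 3 = 3 * k + 9 := by omega
    rw [h7] at h5
    nlinarith
  -- conclusion
  obtain ⟨⟨v, hv⟩, hv0'⟩ := AddSubgroup.ne_bot_iff_exists_ne_zero.1 hV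
  have hv0 : v ≠ 0 := fun h0 => hv0' (Subtype.ext h0)
  rw [eq_top_iff]
  intro x _
  have h1 : x * v⁻¹ ∈ K := by rw [hKtop]; trivial
  have h2 := h1 v hv
  rwa [mul_assoc, inv_mul_cancel₀ hv0, mul_one] at h2

end Field

/-! ### `U₃(2^n)` -/

section PSU

variable {F : Type*} [Field F] [CharP F 2] {σ : F →+* F} [hσ : Fact (∀ x, σ (σ x) = x)]

/-- the action of the torus -/
def tact (t : F) (ht : t ≠ 0) (x : Heis σ) : Heis σ :=
  ⟨t ^ 2 * (σ t)⁻¹ * x.a, t * σ t * x.b, by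
    have h := x.h
    have h0 : σ t ≠ 0 := (map_ne_zero σ).2 ht
    simp only [map_mul, map_pow, map_inv₀, sig]
    field_simp
    linear_combination h⟩

/-- the torus -/
def tor (t : F) (ht : t ≠ 0) : SUJ σ :=
  ⟨⟨!![t, 0, 0; 0, σ t * t⁻¹, 0; 0, 0, (σ t)⁻¹], by
    have h0 : σ t ≠ 0 := (map_ne_zero σ).2 ht
    simp [Matrix.det_fin_three]
    field_simp⟩, by
    have h0 : σ t ≠ 0 := (map_ne_zero σ).2 ht
    show (!![t, 0, 0; 0, σ t * t⁻¹, 0; 0, 0, (σ t)⁻¹] : Matrix (Fin 3) (Fin 3) F)ᵀ * Jm F *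
      (!![t, 0, 0; 0, σ t * t⁻¹, 0; 0, 0, (σ t)⁻¹] : Matrix (Fin 3) (Fin 3) F).map σ = Jm F
    ext i j
    fin_cases i <;> fin_cases j <;>
      simp [Jm, Matrix.mul_apply, Fin.sum_univ_three, sig, h0, ht] <;> field_simp⟩

theorem tor_mul (t : F) (ht : t ≠ 0) (x : Heis σ) : tor t ht * emb σ x = emb σ (tact t ht x) * tor t ht := by
  have h0 : σ t ≠ 0 := (map_ne_zero σ).2 ht
  apply Subtype.ext
  apply Subtype.ext
  change (!![t, 0, 0; 0, σ t * t⁻¹, 0; 0, 0, (σ t)⁻¹] : Matrix (Fin 3) (Fin 3) F) * umat x =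
    umat (tact t ht x) * !![t, 0, 0; 0, σ t * t⁻¹, 0; 0, 0, (σ t)⁻¹]
  ext i j
  fin_cases i <;> fin_cases j <;>
    simp [umat, tact, Matrix.mul_apply, Fin.sum_univ_three, sig] <;> field_simp

/-- Subgroups invariant under the torus. -/
theorem inv_cases [Finite F] {n : ℕ} (hn : 2 ≤ n) (hs : ∀ x, σ x = x ^ (2 ^ n)) (hF : Nat.card F = (2 ^ n) ^ 2)
    (A : Subgroup (Heis σ)) (hA : ∀ (t : F) (ht : t ≠ 0), ∀ x ∈ A, tact t ht x ∈ A) :
    A = ⊥ ∨ A = ⊤ ∨ A = center (Heis σ) := by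
  have hq4 : 4 ≤ 2 ^ n := by
    calc 4 = 2 ^ 2 := rfl
      _ ≤ 2 ^ n := Nat.pow_le_pow_right (by norm_num) hn
  have hq : 1 < 2 ^ n := by omega
  by_cases h0 : A = ⊥
  · exact Or.inl h0
  right
  -- the centre
  have hz : ∃ z ∈ A, z.a = 0 ∧ z.b ≠ 0 := by
    obtain ⟨⟨x, hx⟩, hx1'⟩ := Subgroup.ne_bot_iff_exists_ne_one.1 h0
    have hx1 : x ≠ 1 := fun h0 => hx1' (Subtype.ext h0)
    by_cases ha : x.a = 0
    · refine ⟨x, hx, ha, fun hb => hx1 ?_⟩
      ext
      · exact ha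
      · exact hb
    · refine ⟨x * x, mul_mem hx hx, ?_, ?_⟩
      · rw [mul_a, CharTwo.add_self_eq_zero]
      · rw [mul_b, CharTwo.add_self_eq_zero, zero_add]
        exact mul_ne_zero ha ((map_ne_zero σ).2 ha)
  have hZ : ∀ x : Heis σ, x.a = 0 → x ∈ A := by
    obtain ⟨z, hz, hza, hzb⟩ := hz
    intro x hx
    by_cases hb : x.b = 0
    · have : x = 1 := by ext; exacts [hx, hb]
      rw [this]; exact one_mem _
    have h1 := b_fixed_of_a_eq_zero hx
    have h2 := b_fixed_of_a_eq_zero hza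
    -- a square root
    obtain ⟨y, hy⟩ : ∃ y : F, y ^ 2 = x.b / z.b := by
      have hinj : Function.Injective (frobenius F 2) := frobenius_inj F 2
      obtain ⟨y, hy⟩ := Finite.surjective_of_injective hinj (x.b / z.b)
      exact ⟨y, by rw [← hy, frobenius_def]⟩
    have hy0 : y ≠ 0 := by
      rintro rfl
      rw [zero_pow two_ne_zero] at hy
      exact (div_ne_zero hb hzb) hy.symm
    have hyσ : σ y = y := by
      have h3 : (σ y) ^ 2 = y ^ 2 := by
        rw [← map_pow, hy, map_div₀, h1, h2]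
      exact frobenius_inj F 2 (by rw [frobenius_def, frobenius_def, h3])
    have h4 := hA y hy0 z hz
    have h5 : tact y hy0 z = x := by
      ext
      · show y ^ 2 * (σ y)⁻¹ * z.a = x.a
        rw [hza, hx, mul_zero]
      · show y * σ y * z.b = x.b
        rw [hyσ, ← sq, hy, div_mul_cancel₀ _ hzb]
    rwa [h5] at h4
  by_cases hall : ∀ x ∈ A, x.a = 0
  · right
    ext x
    rw [mem_center_iff hq hs hF]
    exact ⟨hall x, hZ x⟩
  · left
    push Not at hall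
    obtain ⟨x, hx, hxa⟩ := hall
    let V : AddSubgroup F :=
      { carrier := {v | ∃ y ∈ A, y.a = v}
        add_mem' := by
          rintro _ _ ⟨y, hy, rfl⟩ ⟨z, hz, rfl⟩
          exact ⟨y * z, mul_mem hy hz, rfl⟩
        zero_mem' := ⟨1, one_mem _, rfl⟩
        neg_mem' := by
          rintro _ ⟨y, hy, rfl⟩
          exact ⟨y⁻¹, inv_mem hy, by rw [inv_a, CharTwo.neg_eq]⟩ }
    have hV : V = ⊤ := by
      refine add_eq_top (σ := σ) hσ.out hq4 hF V ?_ ?_
      · intro h1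
        have h2 : x.a ∈ V := ⟨x, hx, rfl⟩
        rw [h1, AddSubgroup.mem_bot] at h2
        exact hxa h2
      · rintro t ht _ ⟨y, hy, rfl⟩
        exact ⟨tact t ht y, hA t ht y hy, rfl⟩
    rw [eq_top_iff]
    intro y _
    obtain ⟨z, hz, hza⟩ : y.a ∈ V := by rw [hV]; trivial
    have h1 : z⁻¹ * y ∈ A := hZ _ (by rw [mul_a, inv_a, hza, CharTwo.add_self_eq_zero])
    have h2 := mul_mem hz h1
    rwa [mul_inv_cancel_left] at h2

/-- **`U₃(2^n)`, `n ≥ 2`.** -/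
theorem rowZ_psu (F : Type*) [Field F] [Fintype F] {n : ℕ} (hn : 2 ≤ n) (hF : Fintype.card F = (2 ^ n) ^ 2) :
    ClosedRowZ (Cfsg.PSU 3 F (2 ^ n)) := by
  have : Fact (Nat.Prime 2) := ⟨Nat.prime_two⟩
  rw [← Nat.card_eq_fintype_card] at hF
  obtain ⟨hchar, σ, hσ, hs, -, -⟩ := exists_heis_equiv F (show 1 ≤ n by omega) hF
  have hq : 1 < 2 ^ n := Nat.one_lt_two_pow (by omega)
  have h2 : IsPGroup 2 (Heis σ) :=
    IsPGroup.of_card (n := n * 3) (by rw [HermHeis.card_heis hq hs hF, ← pow_mul])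
  obtain ⟨x, hx⟩ := HermHeis.exists_heis_a (σ := σ) hq hs hF 1
  obtain ⟨P, hP⟩ := exists_sylow ⟨x, by rw [hx]; exact one_ne_zero⟩ h2
  obtain ⟨c, hc⟩ := HermHeis.exists_not_fixed (σ := σ) hq hs hF
  obtain ⟨T, T', hTT', hT⟩ := exists_T hc
  let e : SUJ σ ≃* Cfsg.SU 3 F (2 ^ n) :=
    ((conjT hTT').subgroupMap (SUJ σ)).trans (MulEquiv.subgroupCongr (SU_eq_map hs hTT' hT))
  let f : SUJ σ →* Cfsg.PSU 3 F (2 ^ n) :=
    (QuotientGroup.mk' (Subgroup.center (Cfsg.SU 3 F (2 ^ n)))).comp e.toMonoidHom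
  have hf : Function.Surjective f :=
    (QuotientGroup.mk'_surjective _).comp e.surjective
  have hfi : Function.Injective (f.comp (emb σ)) := by
    rw [injective_iff_map_eq_one]
    intro y hfg
    have h1 : e (emb σ y) ∈ Subgroup.center (Cfsg.SU 3 F (2 ^ n)) := by
      rw [← QuotientGroup.eq_one_iff]
      exact hfg
    have h3 : emb σ y ∈ Subgroup.center (SUJ σ) := by
      rw [Subgroup.mem_center_iff] at h1 ⊢
      intro g
      apply e.injective
      rw [map_mul, map_mul]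
      exact h1 (e g)
    exact eq_one_of_mem_center h3
  let Q : Sylow 2 (Cfsg.PSU 3 F (2 ^ n)) := P.mapSurjective hf
  have hQ : (f.comp (emb σ)).range = (Q : Subgroup (Cfsg.PSU 3 F (2 ^ n))) := by
    rw [MonoidHom.range_comp, ← hP]
    rfl
  exact rowZ_of_hom (emb σ) f hfi Q hQ (I := {t : F // t ≠ 0}) (fun t => tor t.1 t.2) (fun t => tact t.1 t.2)
    (fun t x => tor_mul t.1 t.2 x) fun A hA => inv_cases hn hs hF A fun t ht x hx => hA ⟨t, ht⟩ x hx

end PSU

/-! ### `Sz(q)` -/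

/-- **`Sz(q)`.** -/
theorem rowZ_sz {J : Type*} [Group J] [Finite J] (h : Cfsg.Lie.IsoSuzuki J) : ClosedRowZ J := by
  obtain ⟨F, iF, iF', m, hm, hF, ⟨R⟩⟩ := Cfsg.Agent.ThreePrime.SzRel.exists_rel h
  have h8 : 8 ≤ Nat.card F := by
    rw [Nat.card_eq_fintype_card, hF]
    exact Cfsg.Agent.ThreePrime.SzRel.Rel.eight_le hm
  obtain ⟨Q, hQ⟩ := R.exists_sylow_eq hm hF
  have hθ : Function.Injective R.θ := R.θ.injective
  have hθs : Function.Surjective R.θ := Finite.surjective_of_injective hθ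
  have hθ0 : ∀ {x : F}, x ≠ 0 → R.θ x ≠ 0 := fun hx => (map_ne_zero R.θ).2 hx
  refine closedRowZ_of Q fun A hA => ?_
  rw [hQ] at hA ⊢
  by_cases h0 : A = ⊥
  · exact Or.inl h0
  right
  -- the action of the torus
  have hd : ∀ (k : Fˣ) (a b : F), R.u a b ∈ A → R.u (a * k ^ 2 * (R.θ k)⁻¹) (b * R.θ k) ∈ A := by
    intro k a b hab
    have h1 : R.d k * R.u a b * (R.d k)⁻¹ = R.u (a * k ^ 2 * (R.θ k)⁻¹) (b * R.θ k) := by
      rw [R.d_mul_u, mul_inv_cancel_right]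
    rw [← h1]
    refine hA.2 _ hab _ ?_
    rw [h1]
    exact R.u_mem _ _
  have hz : ∃ c, c ≠ 0 ∧ R.u 0 c ∈ A := by
    obtain ⟨⟨x, hx⟩, hx1'⟩ := Subgroup.ne_bot_iff_exists_ne_one.1 h0
    have hx1 : x ≠ 1 := fun h0 => hx1' (Subtype.ext h0)
    obtain ⟨a, b, rfl⟩ := hA.1 hx
    by_cases ha : a = 0
    · subst ha
      refine ⟨b, ?_, hx⟩
      rintro rfl
      exact hx1 R.u_zero
    · refine ⟨a * R.θ a, mul_ne_zero ha (hθ0 ha), ?_⟩
      rw [← R.u_mul_self a b]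
      exact mul_mem hx hx
  have hZ : ∀ c, R.u 0 c ∈ A := by
    obtain ⟨c, hc, hcA⟩ := hz
    intro c'
    by_cases hc' : c' = 0
    · rw [hc', R.u_zero]; exact one_mem _
    obtain ⟨k, hk⟩ := hθs (c' / c)
    have hk0 : k ≠ 0 := by
      rintro rfl
      rw [map_zero] at hk
      exact div_ne_zero hc' hc hk.symm
    have h1 := hd (Units.mk0 k hk0) 0 c hcA
    rw [Units.val_mk0, hk, zero_mul, zero_mul, mul_div_cancel₀ _ hc] at h1
    exact h1
  by_cases hall : ∀ a b, R.u a b ∈ A → a = 0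
  · right
    ext x
    constructor
    · intro hx
      obtain ⟨a, b, rfl⟩ := hA.1 hx
      have ha := hall a b hx
      refine ⟨⟨R.u a b, R.u_mem a b⟩, ?_, rfl⟩
      rw [SetLike.mem_coe, Subgroup.mem_center_iff]
      rintro ⟨y, hy⟩
      apply Subtype.ext
      have h1 := (R.sq_iff h8 _ (R.u_mem a b)).1 ((R.u_sq_iff a b).2 ha) y hy
      exact h1.symm
    · rintro ⟨⟨y, hy⟩, hyc, rfl⟩
      rw [SetLike.mem_coe, Subgroup.mem_center_iff] at hyc
      obtain ⟨a, b, rfl⟩ := hy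
      have h1 : R.u a b * R.u a b = 1 := (R.sq_iff h8 _ (R.u_mem a b)).2 fun z hz =>
        (congrArg Subtype.val (hyc ⟨z, hz⟩)).symm
      have ha := (R.u_sq_iff a b).1 h1
      subst ha
      exact hZ b
  · left
    push Not at hall
    obtain ⟨a, b, hab, ha⟩ := hall
    refine le_antisymm hA.1 ?_
    rintro _ ⟨a', b', rfl⟩
    -- `k ↦ k² / θ k` is onto
    have hsur : ∀ r : F, r ≠ 0 → ∃ k : Fˣ, (k : F) ^ 2 * (R.θ k)⁻¹ = r := by
      let g : Fˣ →* Fˣ :=
        { toFun := fun t => t ^ 2 * (Units.map (R.θ : F →* F) t)⁻¹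
          map_one' := by simp
          map_mul' := by
            intro a b
            rw [mul_pow, map_mul, mul_inv]
            exact mul_mul_mul_comm _ _ _ _ }
      have hg : ∀ t : Fˣ, ((g t : Fˣ) : F) = (t : F) ^ 2 * (R.θ t)⁻¹ := by
        intro t
        show (((t ^ 2 * (Units.map (R.θ : F →* F) t)⁻¹ : Fˣ)) : F) = _
        rw [Units.val_mul, Units.val_pow_eq_pow_val, Units.val_inv_eq_inv_val]
        rfl
      have hgi : Function.Injective g := by
        rw [injective_iff_map_eq_one]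
        intro t ht
        have h1 : ((g t : Fˣ) : F) = 1 := by rw [ht]; rfl
        rw [hg] at h1
        have h0 : R.θ (t : F) ≠ 0 := hθ0 t.ne_zero
        have h2 : (t : F) ^ 2 = R.θ t := by
          field_simp at h1
          exact h1
        have h3 : R.θ (t : F) ^ 2 = (t : F) ^ 2 := by
          have := congrArg R.θ h2
          rwa [map_pow, R.sq] at this
        have h5 : ((t : F) - R.θ t) ^ 2 = 0 := by
          linear_combination h3 + ((t : F) ^ 2 - t * R.θ t) * R.two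
        have h6 : (t : F) = R.θ t := sub_eq_zero.1 (pow_eq_zero_iff (two_ne_zero) |>.1 h5)
        have h7 : (t : F) * ((t : F) - 1) = 0 := by linear_combination h2 - h6
        rcases mul_eq_zero.1 h7 with h8 | h8
        · exact absurd h8 t.ne_zero
        · exact Units.ext (sub_eq_zero.1 h8)
      intro r hr
      obtain ⟨k, hk⟩ := Finite.surjective_of_injective hgi (Units.mk0 r hr)
      exact ⟨k, by rw [← hg, hk]; rfl⟩
    by_cases ha' : a' = 0
    · rw [ha']; exact hZ b'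
    obtain ⟨k, hk⟩ := hsur (a' / a) (div_ne_zero ha' ha)
    have h1 := hd k a b hab
    have h2 : a * (k : F) ^ 2 * (R.θ k)⁻¹ = a' := by
      rw [mul_assoc, hk, mul_div_cancel₀ _ ha]
    rw [h2] at h1
    have h3 := mul_mem (hZ (b' + b * R.θ k)) h1
    rw [R.u_mul, zero_add, zero_mul, add_zero] at h3
    have h4 : b' + b * R.θ (k : F) + b * R.θ k = b' := by
      rw [add_assoc, R.add_self, add_zero]
    rwa [h4] at h3

/-! ### `L₂(2^n)` -/

section PSL

open Cfsg.Agent.Classification.PSLTwoEvenSylow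

variable {F : Type*} [Field F] [Fintype F] [CharP F 2]

/-- the diagonal matrix -/
def dg (k : F) (hk : k ≠ 0) : Matrix.SpecialLinearGroup (Fin 2) F :=
  ⟨!![k, 0; 0, k⁻¹], by simp [Matrix.det_fin_two, hk]⟩

omit [Fintype F] [CharP F 2] in
theorem dg_coe (k : F) (hk : k ≠ 0) : (dg k hk : Matrix (Fin 2) (Fin 2) F) = !![k, 0; 0, k⁻¹] := rfl

omit [Fintype F] [CharP F 2] in
theorem uni_coe (a : Multiplicative F) :
    (uni a : Matrix (Fin 2) (Fin 2) F) = !![1, Multiplicative.toAdd a; 0, 1] := rfl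

omit [Fintype F] [CharP F 2] in
theorem dg_mul (k : F) (hk : k ≠ 0) (a : F) :
    dg k hk * uni (Multiplicative.ofAdd a) = uni (Multiplicative.ofAdd (k ^ 2 * a)) * dg k hk := by
  apply Subtype.ext
  rw [Matrix.SpecialLinearGroup.coe_mul, Matrix.SpecialLinearGroup.coe_mul, dg_coe, uni_coe, uni_coe,
    toAdd_ofAdd, toAdd_ofAdd, Matrix.mul_fin_two, Matrix.mul_fin_two]
  ext i j
  fin_cases i <;> fin_cases j <;> simp
  field_simp

/-- the unipotent subgroup is a Sylow subgroup -/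
theorem exists_sylow_uniP : ∃ Q : Sylow 2 (Matrix.ProjectiveSpecialLinearGroup (Fin 2) F),
    (uniP (F := F)).range = (Q : Subgroup _) := by
  have : Fact (Nat.Prime 2) := ⟨Nat.prime_two⟩
  obtain ⟨n, _, hn⟩ := FiniteField.card F 2
  have hcardU : Nat.card (uniP (F := F)).range = 2 ^ (n : ℕ) := by
    rw [← Nat.card_congr (MonoidHom.ofInjective uniP_injective).toEquiv]
    rw [← hn, ← Nat.card_eq_fintype_card]
    exact Nat.card_congr Multiplicative.toAdd
  have hU : IsPGroup 2 (uniP (F := F)).range := IsPGroup.of_card hcardU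
  obtain ⟨Q, hQ⟩ := hU.exists_le_sylow
  have hcardG : Nat.card (Matrix.ProjectiveSpecialLinearGroup (Fin 2) F) = 2 ^ (n : ℕ) * ((2 ^ (n : ℕ)) ^ 2 - 1) := by
    rw [card_psl, hn]
  have hQcard : Nat.card Q = 2 ^ (n : ℕ) := by
    obtain ⟨m, hm⟩ := IsPGroup.iff_card.mp Q.isPGroup'
    have h1 : 2 ^ m ∣ 2 ^ (n : ℕ) * ((2 ^ (n : ℕ)) ^ 2 - 1) := by
      rw [← hm, ← hcardG]; exact Subgroup.card_subgroup_dvd_card _
    have h2 : Nat.Coprime (2 ^ m) ((2 ^ (n : ℕ)) ^ 2 - 1) := by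
      apply Nat.Coprime.pow_left
      rw [Nat.Prime.coprime_iff_not_dvd Nat.prime_two]
      have h2 : 2 ∣ (2 ^ (n : ℕ)) ^ 2 := by
        rw [← pow_mul]; exact dvd_pow_self 2 (by have := n.pos; positivity)
      have h3 : 1 ≤ (2 ^ (n : ℕ)) ^ 2 := Nat.one_le_iff_ne_zero.mpr (by positivity)
      omega
    have h3 := h2.dvd_of_dvd_mul_right h1
    have h4 : 2 ^ (n : ℕ) ∣ 2 ^ m := by
      rw [← hm, ← hcardU]; exact Subgroup.card_dvd_of_le hQ
    rw [hm]; exact Nat.dvd_antisymm h3 h4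
  exact ⟨Q, Subgroup.eq_of_le_of_card_ge hQ (by rw [hcardU]; exact hQcard.le)⟩

variable (F) in
/-- **`L₂(2^n)`.** -/
theorem row_psl : ClosedRow (Matrix.ProjectiveSpecialLinearGroup (Fin 2) F) := by
  obtain ⟨Q, hQ⟩ := exists_sylow_uniP (F := F)
  refine closedRow_of Q fun A hA => ?_
  rw [← hQ] at hA ⊢
  by_cases h0 : A = ⊥
  · exact Or.inl h0
  right
  refine le_antisymm hA.1 ?_
  obtain ⟨⟨x, hx⟩, hx1'⟩ := Subgroup.ne_bot_iff_exists_ne_one.1 h0
  have hx1 : x ≠ 1 := fun h0 => hx1' (Subtype.ext h0)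
  obtain ⟨a, rfl⟩ := hA.1 hx
  rintro _ ⟨b, rfl⟩
  have ha : Multiplicative.toAdd a ≠ 0 := by
    intro ha
    apply hx1
    have : a = 1 := Multiplicative.toAdd.injective ha
    rw [this, map_one]
  by_cases hb : Multiplicative.toAdd b = 0
  · have : b = 1 := Multiplicative.toAdd.injective hb
    rw [this, map_one]
    exact one_mem _
  obtain ⟨y, hy⟩ : ∃ y : F, y ^ 2 = Multiplicative.toAdd b / Multiplicative.toAdd a := by
    have hinj : Function.Injective (frobenius F 2) := frobenius_inj F 2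
    obtain ⟨y, hy⟩ := Finite.surjective_of_injective hinj (Multiplicative.toAdd b / Multiplicative.toAdd a)
    exact ⟨y, by rw [← hy, frobenius_def]⟩
  have hy0 : y ≠ 0 := by
    rintro rfl
    rw [zero_pow two_ne_zero] at hy
    exact (div_ne_zero hb ha) hy.symm
  have h1 := dg_mul y hy0 (Multiplicative.toAdd a)
  rw [hy, div_mul_cancel₀ _ ha] at h1
  have h2 : QuotientGroup.mk' (Subgroup.center (Matrix.SpecialLinearGroup (Fin 2) F)) (dg y hy0) * uniP a *
      (QuotientGroup.mk' (Subgroup.center (Matrix.SpecialLinearGroup (Fin 2) F)) (dg y hy0))⁻¹ = uniP b := by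
    rw [mul_inv_eq_iff_eq_mul]
    exact congrArg (QuotientGroup.mk' (Subgroup.center (Matrix.SpecialLinearGroup (Fin 2) F))) h1
  rw [← h2]
  refine hA.2 _ hx _ ?_
  rw [h2]
  exact ⟨_, rfl⟩

end PSL

end Cfsg.Agent.ClosedTwo.RankOne

end

-- merged: Cfsg.Agent.ClosedTwo.TwF4
section

/-!
Strongly closed 2-subgroups of `²F₄(q)`, `q ≥ 8` (helper39, S1252).

* `eq_U` : over `S : Full σ G`, a strongly closed subgroup `A ≠ 1` of `U = J 1 8` is `U`;
* `row` : `ClosedRow G` for `G ≅ ²F₄(q)`.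
-/

set_option autoImplicit false
set_option linter.unusedSectionVars false

namespace Cfsg.Agent.ClosedTwo.TwF4

open Cfsg Cfsg.Agent.ClosedTwo
open Cfsg.Agent.KFacts.TwF4 Cfsg.Agent.KFacts.TwF4.Arc Cfsg.Agent.KFacts.TwF4.Irr Cfsg.Agent.SplitTwo.ZS

variable {F : Type*} [Field F] {σ : F →+* F} {G : Type*} [Group G] (S : Full σ G)

theorem U1 (t : F) : S.o 0 t ∈ J S.XZ 1 8 := mem_J (S.mX1 t) (by norm_num) (by norm_num)
theorem U2 (p u : F) : S.e 1 p u ∈ J S.XZ 1 8 := mem_J (S.mX2 p u) (by norm_num) (by norm_num)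
theorem U3 (t : F) : S.o 1 t ∈ J S.XZ 1 8 := mem_J (S.mX3 t) (by norm_num) (by norm_num)
theorem U4 (p u : F) : S.e 2 p u ∈ J S.XZ 1 8 := mem_J (S.mX4 p u) (by norm_num) (by norm_num)
theorem U5 (t : F) : S.o 2 t ∈ J S.XZ 1 8 := mem_J (S.mX5 t) (by norm_num) (by norm_num)
theorem U6 (p u : F) : S.e 3 p u ∈ J S.XZ 1 8 := mem_J (S.mX6 p u) (by norm_num) (by norm_num)
theorem U7 (t : F) : S.o 3 t ∈ J S.XZ 1 8 := mem_J (S.mX7 t) (by norm_num) (by norm_num)
theorem U8 (p u : F) : S.e 4 p u ∈ J S.XZ 1 8 := mem_J (S.mX8 p u) (by norm_num) (by norm_num)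

variable {A : Subgroup G} (hA : IsStronglyClosed A (J S.XZ 1 8))

include hA

theorem conj_mem {g x : G} (hg : g ∈ J S.XZ 1 8) (hx : x ∈ A) : g * x * g⁻¹ ∈ A :=
  hA.2 x hx g (mul_mem (mul_mem hg (hA.1 hx)) (inv_mem hg))

theorem conj_mem' {g x : G} (hg : g ∈ J S.XZ 1 8) (hx : x ∈ A) : g⁻¹ * x * g ∈ A := by
  have := conj_mem S hA (inv_mem hg) hx
  rwa [inv_inv] at this

/-- `dl g x ∈ A` if `x ∈ A` -/
theorem dl_mem_right {g x : G} (hg : g ∈ J S.XZ 1 8) (hx : x ∈ A) : dl g x ∈ A :=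
  mul_mem (inv_mem hx) (conj_mem' S hA hg hx)

/-- `dl g x ∈ A` if `g ∈ A` -/
theorem dl_mem_left {g x : G} (hx : x ∈ J S.XZ 1 8) (hg : g ∈ A) : dl g x ∈ A := by
  have h1 : dl g x = (x⁻¹ * g⁻¹ * x) * g := by unfold dl; group
  rw [h1]
  exact mul_mem (conj_mem' S hA hx (inv_mem hg)) hg

theorem rot_e_mem {a b : ZMod 8} {p u : F} (h : S.e a p u ∈ A) (hb : S.e b p u ∈ J S.XZ 1 8) : S.e b p u ∈ A := by
  have h1 := S.rotn_e (b - a).val a p u
  rw [ZMod.natCast_zmod_val, add_sub_cancel] at h1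
  rw [← h1]
  exact hA.2 _ h _ (h1 ▸ hb)

theorem rot_o_mem {a b : ZMod 8} {t : F} (h : S.o a t ∈ A) (hb : S.o b t ∈ J S.XZ 1 8) : S.o b t ∈ A := by
  have h1 := S.rotn_o (b - a).val a t
  rw [ZMod.natCast_zmod_val, add_sub_cancel] at h1
  rw [← h1]
  exact hA.2 _ h _ (h1 ▸ hb)

theorem exists_z [Finite F] [Finite G] (hR : S.R.p = 2) (hA1 : A ≠ ⊥) : ∃ u, u ≠ 0 ∧ S.e 2 0 u ∈ A := by
  have hfact : Fact (Nat.Prime 2) := ⟨Nat.prime_two⟩
  have hU2 : IsPGroup 2 (J S.XZ 1 8) := Perf.two_J S hR (by norm_num)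
  have hnil : Group.IsNilpotent (J S.XZ 1 8) := hU2.isNilpotent
  have hN : (A.subgroupOf (J S.XZ 1 8)).Normal := by
    refine ⟨fun x hx g => ?_⟩
    rw [Subgroup.mem_subgroupOf] at hx ⊢
    exact conj_mem S hA g.2 hx
  have h1 : A.subgroupOf (J S.XZ 1 8) ≠ ⊥ := by
    intro h0
    apply hA1
    rw [eq_bot_iff]
    intro x hx
    have h2 : (⟨x, hA.1 hx⟩ : J S.XZ 1 8) ∈ A.subgroupOf (J S.XZ 1 8) := hx
    rw [h0, Subgroup.mem_bot] at h2
    exact congrArg Subtype.val h2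
  have h2 := Cfsg.Agent.Lib.NormalAbelian.normal_inf_center_ne_bot (A.subgroupOf (J S.XZ 1 8)) h1
  obtain ⟨⟨x, hx⟩, hx1'⟩ := Subgroup.ne_bot_iff_exists_ne_one.1 h2
  have hx1 : (x : G) ≠ 1 := fun h0 => hx1' (Subtype.ext (Subtype.ext h0))
  obtain ⟨hxA, hxc⟩ := Subgroup.mem_inf.1 hx
  rw [Subgroup.mem_center_iff] at hxc
  have hxZ : (x : G) ∈ S.Zc 2 := by
    refine S.mem_Zc_of_comm x.2 fun y hy => ?_
    have hyU : y ∈ J S.XZ 1 8 := J_mono (by norm_num) (by norm_num) hy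
    exact (congrArg Subtype.val (hxc ⟨y, hyU⟩)).symm
  obtain ⟨u, hu⟩ := hxZ
  refine ⟨u, ?_, ?_⟩
  · rintro rfl
    apply hx1
    rw [← hu, S.e_zero]
  · rw [hu]
    exact hxA


/-- all `Z_4` -/
theorem z4_mem [Finite F] {u : F} (hu : u ≠ 0) (h : S.e 2 0 u ∈ A) (v : F) : S.e 2 0 v ∈ A := by
  by_cases hv : v = 0
  · rw [hv, S.e_zero]; exact one_mem _
  obtain ⟨t, ht, e⟩ := S.T_trans hu hv
  rw [← e]
  exact hA.2 _ h _ (e ▸ U4 S 0 v)

/-- the element `a * e 3 1 c`, `a ∈ Q1` -/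
theorem exists_x0 (hz8 : S.e 4 0 1 ∈ A) : ∃ p u, ∃ q ∈ S.Q2, ∃ c, S.e 2 p u * q * S.e 3 1 c ∈ A := by
  obtain ⟨a1, ha1, c, h1⟩ := dl_01_o0 S (1 : F)
  obtain ⟨a2, ha2, h2⟩ := dl_01_e1 S (1 : F) (0 : F)
  have h3 := dl_mem_left S hA (U1 S 1) hz8
  have h4 := dl_mem_left S hA (U2 S 1 0) hz8
  rw [h1, map_one, mul_one] at h3
  rw [h2] at h4
  have hQ1U : S.Q1 ≤ J S.XZ 1 8 := S.Q1_le_J.trans (J_mono (by norm_num) (by norm_num))
  have h5 := mul_mem h3 (inv_mem h4)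
  have h6 : a1 * (S.e 3 1 c * S.o 3 1) * (a2 * S.o 3 1)⁻¹ = a1 * S.e 3 1 c * a2⁻¹ := by group
  rw [h6] at h5
  have h7 := conj_mem' S hA (hQ1U ha2) h5
  have h8 : a2⁻¹ * (a1 * S.e 3 1 c * a2⁻¹) * a2 = a2⁻¹ * a1 * S.e 3 1 c := by group
  rw [h8] at h7
  have ha : a2⁻¹ * a1 ∈ S.Q1 := mul_mem (inv_mem ha2) ha1
  -- the form of an element of `Q1`
  have hn : S.XZ 4 ≤ Subgroup.normalizer (S.Q2 : Set G) :=
    le_trans (X_le_J (by norm_num) (by norm_num)) S.Q2_norm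
  have hform : a2⁻¹ * a1 ∈ ((S.XZ 4 ⊔ S.Q2 : Subgroup G) : Set G) := ha
  rw [Subgroup.coe_mul_of_left_le_normalizer_right _ _ hn, Set.mem_mul] at hform
  obtain ⟨x, hx, q, hq, e⟩ := hform
  obtain ⟨p, u, rfl⟩ := S.X4 hx
  exact ⟨p, u, q, hq, c, by rw [e]; exact h7⟩

/-- `dl (e 2 s 0) (e 2 p u) ∈ Z_4` -/
theorem dl_e2 (s p u : F) : ∃ v, dl (S.e 2 s 0) (S.e 2 p u) = S.e 2 0 v := by
  unfold dl
  rw [e_inv, e_inv, S.e_mul, S.e_mul, S.e_mul]
  have h : p + (s + p + s) = 0 := by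
    calc p + (s + p + s) = (p + p) + (s + s) := by ring
      _ = 0 := by rw [char2 S, char2 S, add_zero]
  exact ⟨_, by rw [h]⟩

/-- all `X_5` -/
theorem o2_mem (hz : ∀ v, S.e 2 0 v ∈ A) {p u c : F} {q : G} (hq : q ∈ S.Q2) (hx : S.e 2 p u * q * S.e 3 1 c ∈ A)
    (s : F) : S.o 2 s ∈ A := by
  have h1 := dl_mem_right S hA (U4 S s 0) hx
  have hqU : q ∈ J S.XZ 1 8 := J_mono (by norm_num) (by norm_num) (S.Q2_le_J hq)
  rw [dl_mul, dl_mul] at h1
  have h2 : dl (S.e 2 s 0) q = 1 := by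
    refine dl_of ?_
    rw [mul_one]
    exact (S.Q1_comm (Subgroup.mem_sup_left (S.mX4 s 0)) hq).symm
  obtain ⟨v, hv⟩ := dl_e2 S hA s p u
  rw [h2, mul_one, hv] at h1
  have h3 : (S.e 3 1 c)⁻¹ * (q⁻¹ * S.e 2 0 v * q) * S.e 3 1 c ∈ A :=
    conj_mem' S hA (U6 S 1 c) (conj_mem' S hA hqU (hz v))
  have h4 := (Subgroup.mul_mem_cancel_left A h3).1 h1
  have h5 := S.e_e1 2 s 0 1 c
  rw [mul_one, show (2 : ZMod 8) + 1 = 3 by decide] at h5
  have h6 : dl (S.e 2 s 0) (S.e 3 1 c) = (S.o 2 s)⁻¹ := by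
    refine dl_of ?_
    rw [h5]; group
  rw [h6] at h4
  exact (inv_mem_iff).1 h4

/-- **Strongly closed subgroups of the Sylow 2-subgroup of `²F₄(q)`.** -/
theorem eq_U [Finite F] [Finite G] (hF : ∃ c : Fˣ, c ≠ 1) (hR : S.R.p = 2) (hA1 : A ≠ ⊥) : A = J S.XZ 1 8 := by
  refine le_antisymm hA.1 ?_
  obtain ⟨u0, hu0, h0⟩ := exists_z S hA hR hA1
  have hz4 := z4_mem S hA hu0 h0
  have hz8 : S.e 4 0 1 ∈ A := rot_e_mem S hA (hz4 1) (U8 S 0 1)
  obtain ⟨p, u, q, hq, c, hx⟩ := exists_x0 S hA hz8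
  have ho2 := o2_mem S hA hz4 hq hx
  have ho0 : ∀ t, S.o 0 t ∈ A := fun t => rot_o_mem S hA (ho2 t) (U1 S t)
  have ho1 : ∀ t, S.o 1 t ∈ A := fun t => rot_o_mem S hA (ho2 t) (U3 S t)
  have ho3 : ∀ t, S.o 3 t ∈ A := fun t => rot_o_mem S hA (ho2 t) (U7 S t)
  have hQ2 : S.Q2 ≤ A := S.Q2_le (fun v => rot_e_mem S hA (hz4 v) (U2 S 0 v)) ho1 hz4 ho2
    (fun v => rot_e_mem S hA (hz4 v) (U6 S 0 v))
  -- `x₁ = e 2 p u * e 3 1 c`
  have hx1 : S.e 2 p u * S.e 3 1 c ∈ A := by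
    have h1 := S.Q1_comm (Subgroup.mem_sup_left (S.mX4 p u)) hq
    have h2 := mul_mem (inv_mem (hQ2 hq)) hx
    rw [h1] at h2
    have h3 : q⁻¹ * (q * S.e 2 p u * S.e 3 1 c) = S.e 2 p u * S.e 3 1 c := by group
    rwa [h3] at h2
  -- the torus element
  obtain ⟨d, hd⟩ := hF
  have hconj : S.h (Units.map (σ : F →* F) d) d * (S.e 2 p u * S.e 3 1 c) *
      (S.h (Units.map (σ : F →* F) d) d)⁻¹ = S.e 2 p u * S.e 3 ((d : F)⁻¹) (((d : F)⁻¹) * σ ((d : F)⁻¹) * c) := by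
    have e1 := S.h_e (Units.map (σ : F →* F) d) d 2 p u
    have e2 := S.h_e (Units.map (σ : F →* F) d) d 3 1 c
    rw [chE_two, div_self', Units.val_one, map_one, one_mul, one_mul, one_mul] at e1
    have e3 : chE σ 3 (Units.map (σ : F →* F) d) d = d⁻¹ := by
      rw [chE_three]
      have h1 : Units.map (σ : F →* F) (Units.map (σ : F →* F) d) = d ^ 2 := by
        apply Units.ext
        show σ (σ (d : F)) = _
        rw [S.sq, Units.val_pow_eq_pow_val]
      rw [h1, sq, div_mul_cancel_left]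
    rw [e3, mul_one, Units.val_inv_eq_inv_val] at e2
    calc S.h (Units.map (σ : F →* F) d) d * (S.e 2 p u * S.e 3 1 c) * (S.h (Units.map (σ : F →* F) d) d)⁻¹
        = (S.h (Units.map (σ : F →* F) d) d * S.e 2 p u * (S.h (Units.map (σ : F →* F) d) d)⁻¹) *
          (S.h (Units.map (σ : F →* F) d) d * S.e 3 1 c * (S.h (Units.map (σ : F →* F) d) d)⁻¹) := by group
      _ = _ := by rw [e1, e2]
  have hx2 := hA.2 _ hx1 (S.h (Units.map (σ : F →* F) d) d) (by
    rw [hconj]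
    exact mul_mem (U4 S _ _) (U6 S _ _))
  rw [hconj] at hx2
  have hx3 := mul_mem (inv_mem hx1) hx2
  have hr : (1 : F) + (d : F)⁻¹ ≠ 0 := by
    intro h1
    apply hd
    have h2 : (d : F)⁻¹ = 1 := by
      have := eq_neg_of_add_eq_zero_right h1
      rw [this, S.neg_one_eq]
    exact Units.ext (inv_eq_one.1 h2)
  obtain ⟨c1, hx4⟩ : ∃ c1, S.e 3 (1 + (d : F)⁻¹) c1 ∈ A := by
    have h1 : (S.e 2 p u * S.e 3 1 c)⁻¹ * (S.e 2 p u * S.e 3 ((d : F)⁻¹) (((d : F)⁻¹) * σ ((d : F)⁻¹) * c)) =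
        (S.e 3 1 c)⁻¹ * S.e 3 ((d : F)⁻¹) (((d : F)⁻¹) * σ ((d : F)⁻¹) * c) := by group
    rw [h1, e_inv, S.e_mul] at hx3
    exact ⟨_, hx3⟩
  have he3 : ∀ p' v, S.e 3 p' v ∈ A := by
    intro p' v
    have hz3 : ∀ v, S.e 3 0 v ∈ A := fun v => rot_e_mem S hA (hz4 v) (U6 S 0 v)
    by_cases hp : p' = 0
    · rw [hp]; exact hz3 v
    set k : Fˣ := Units.mk0 (p' / (1 + (d : F)⁻¹)) (div_ne_zero hp hr) with hk
    have h1 := S.h_e 1 k 3 (1 + (d : F)⁻¹) c1
    have h2 : chE σ 3 1 k = k := by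
      rw [chE_three, map_one, div_one]
    rw [h2, hk, Units.val_mk0, div_mul_cancel₀ _ hr] at h1
    have h3 := hA.2 _ hx4 (S.h 1 k) (by rw [h1]; exact U6 S _ _)
    rw [h1] at h3
    have h4 := mul_mem h3 (hz3 (v - (p' / (1 + (d : F)⁻¹) * σ (p' / (1 + (d : F)⁻¹)) * c1)))
    rw [S.e_mul, add_zero, map_zero, mul_zero, add_zero, add_sub_cancel] at h4
    exact h4
  have he1 : ∀ p' v, S.e 1 p' v ∈ A := fun p' v => rot_e_mem S hA (he3 p' v) (U2 S p' v)
  have he2 : ∀ p' v, S.e 2 p' v ∈ A := fun p' v => rot_e_mem S hA (he3 p' v) (U4 S p' v)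
  have he4 : ∀ p' v, S.e 4 p' v ∈ A := fun p' v => rot_e_mem S hA (he3 p' v) (U8 S p' v)
  refine J_le fun k h1 h8 x hx => ?_
  interval_cases k
  · obtain ⟨t, rfl⟩ := S.X1 hx; exact ho0 t
  · obtain ⟨p', v, rfl⟩ := S.X2 hx; exact he1 p' v
  · obtain ⟨t, rfl⟩ := S.X3 hx; exact ho1 t
  · obtain ⟨p', v, rfl⟩ := S.X4 hx; exact he2 p' v
  · obtain ⟨t, rfl⟩ := S.X5 hx; exact ho2 t
  · obtain ⟨p', v, rfl⟩ := S.X6 hx; exact he3 p' v
  · obtain ⟨t, rfl⟩ := S.X7 hx; exact ho3 t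
  · obtain ⟨p', v, rfl⟩ := S.X8 hx; exact he4 p' v

omit hA in
/-- **`²F₄(q)`, `q ≥ 8`.** -/
theorem row {H : Type*} [Group H] [Finite H] (h : Cfsg.Lie.Iso2F4 H) : ClosedRow H := by
  obtain ⟨K, iK, iK', m, hm, hK, ⟨e⟩⟩ := h
  obtain ⟨φ, hφ⟩ := Cfsg.Agent.ChevalleyStructure.TwF4.TwistedFix.exists_rln hK
  have := Cfsg.Agent.ChevalleyStructure.TwF4.Twisted.charP_two hK
  have hfin : Finite ↥(Cfsg.Lie.twistedF4 K (2 ^ m)) := inferInstance
  have hF : ∃ c : Kˣ, c ≠ 1 := by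
    have h1 : 1 < Nat.card Kˣ := by
      rw [Nat.card_units, Nat.card_eq_fintype_card, hK]
      have : 2 ^ 3 ≤ 2 ^ (2 * m + 1) := Nat.pow_le_pow_right (by norm_num) (by omega)
      omega
    have h2 : Nontrivial Kˣ := Finite.one_lt_card_iff_nontrivial.1 h1
    exact exists_ne 1
  let S := Cfsg.Agent.KFacts.TwF4.Inst.full hK hφ
  obtain ⟨P, hP⟩ := SylU.exists_sylow S hF rfl
  refine ClosedRow.congr e.symm (RankOne.closedRow_of P fun A hA => ?_)
  by_cases hA1 : A = ⊥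
  · exact Or.inl hA1
  · right
    rw [hP] at hA ⊢
    exact eq_U S hA hF rfl hA1

end Cfsg.Agent.ClosedTwo.TwF4

end

-- merged: Cfsg.Agent.ClosedTwo.LieTwo
section

/-!
The rows of S1252 for the simple groups of Lie type of characteristic 2 (helper39).

* `row_filt`, `row_lie` : the rows `ClosedRed.Row`, from Bender's theorem for simple groups `Bend`.
-/

set_option autoImplicit false

namespace Cfsg.Agent.ClosedTwo.LieTwo

open Cfsg Cfsg.Agent.ClosedTwo Cfsg.Agent.KFacts.RgdFilt Cfsg.Agent.KFacts.RgdLieCharP Cfsg.Agent.ClosedRed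

universe u

/-- Bender's theorem for simple groups (`StrongEmb.Strong.result`). -/
def Bend : Prop :=
  ∀ (G : Type u) [Group G] [Finite G] [IsSimpleGroup G], (∃ a b : G, a * b ≠ b * a) → ∀ H : Subgroup G,
    Cfsg.IsStronglyEmbedded H →
    (∃ (F : Type) (_ : Field F) (_ : Fintype F), (∃ n : ℕ, 2 ≤ n ∧ Fintype.card F = 2 ^ n) ∧
          Nonempty (G ≃* Matrix.ProjectiveSpecialLinearGroup (Fin 2) F)) ∨
        Cfsg.Lie.IsoSuzuki G ∨
        (∃ (F : Type) (_ : Field F) (_ : Fintype F) (n : ℕ), 2 ≤ n ∧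
          Fintype.card F = (2 ^ n) ^ 2 ∧ Nonempty (G ≃* Cfsg.PSU 3 F (2 ^ n)))

theorem charP_two {F : Type*} [Field F] [Fintype F] {n : ℕ} (hn : 1 ≤ n) (hF : Fintype.card F = 2 ^ n) :
    CharP F 2 := by
  obtain ⟨p, hp⟩ := CharP.exists F
  have hpp : p.Prime := (CharP.char_is_prime_or_zero F p).resolve_right (CharP.char_ne_zero_of_finite F p)
  obtain ⟨m, _, hm⟩ := FiniteField.card F p
  rw [hF] at hm
  have h1 : p ∣ 2 ^ n := by
    rw [hm]
    exact dvd_pow_self p m.ne_zero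
  have h2 := (Nat.prime_dvd_prime_iff_eq hpp Nat.prime_two).mp (hpp.dvd_of_dvd_pow h1)
  rwa [h2] at hp

/-- a group with a strongly embedded subgroup -/
theorem row_of_stronglyEmbedded (hB : Bend.{u}) {G : Type u} [Group G] [Finite G] [IsSimpleGroup G]
    (hc : ∃ a b : G, a * b ≠ b * a) {H : Subgroup G} (hH : IsStronglyEmbedded H) : Row G := by
  rcases hB G hc H hH with ⟨F, i1, i2, ⟨n, hn, hF⟩, ⟨e⟩⟩ | h | ⟨F, i1, i2, n, hn, hF, ⟨e⟩⟩
  · have := charP_two (show 1 ≤ n by omega) hF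
    have : Finite (Matrix.ProjectiveSpecialLinearGroup (Fin 2) F) := Finite.of_equiv G e.toEquiv
    exact Or.inl (ClosedRow.congr e.symm (RankOne.row_psl F))
  · exact Or.inr ⟨RankOne.rowZ_sz h, Or.inr h⟩
  · have : Finite (Cfsg.PSU 3 F (2 ^ n)) := Finite.of_equiv G e.toEquiv
    refine Or.inr ⟨ClosedRowZ.congr e.symm (RankOne.rowZ_psu F hn hF), Or.inl ⟨F, i1, i2, 2 ^ n, hF, ?_, ?_, ⟨e⟩⟩⟩
    · exact (Nat.even_pow.2 ⟨even_two, by omega⟩)
    · calc 4 = 2 ^ 2 := rfl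
        _ ≤ 2 ^ n := Nat.pow_le_pow_right (by norm_num) hn

/-- groups with a filtered root group datum in characteristic 2 -/
theorem row_filt (hB : Bend.{u}) {G : Type u} [Group G] [Finite G] [IsSimpleGroup G] (hG : HasFilt 2 G)
    (hc : ∃ a b : G, a * b ≠ b * a) : Row G := by
  rcases Filt.closedRow_of_filt hG hc with h | ⟨H, hH⟩
  · exact Or.inl h
  · exact row_of_stronglyEmbedded hB hc hH

/-- **The simple groups of Lie type of characteristic 2.** -/
theorem row_lie (hB : Bend.{u}) {G : Type u} [Group G] [Finite G] [IsSimpleGroup G] (hG : IsLieTypeChar 2 G)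
    (hc : ∃ a b : G, a * b ≠ b * a) : Row G := by
  rcases hG with h | h | h | h | h | h | h | h | ⟨-, h⟩ | ⟨-, h⟩ | ⟨h, -⟩
  · exact row_filt hB (hasFilt_of_lie (Or.inl h)) hc
  · exact row_filt hB (hasFilt_of_lie (Or.inr (Or.inl h))) hc
  · exact row_filt hB (hasFilt_of_lie (Or.inr (Or.inr (Or.inl h)))) hc
  · exact row_filt hB (hasFilt_of_lie (Or.inr (Or.inr (Or.inr (Or.inl h))))) hc
  · exact row_filt hB (hasFilt_of_lie (Or.inr (Or.inr (Or.inr (Or.inr (Or.inl h)))))) hc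
  · exact row_filt hB (hasFilt_of_lie (Or.inr (Or.inr (Or.inr (Or.inr (Or.inr (Or.inl h))))))) hc
  · exact row_filt hB (hasFilt_of_lie (Or.inr (Or.inr (Or.inr (Or.inr (Or.inr (Or.inr (Or.inl h)))))))) hc
  · exact row_filt hB (hasFilt_of_lie (Or.inr (Or.inr (Or.inr (Or.inr (Or.inr (Or.inr (Or.inr h)))))))) hc
  · exact Or.inr ⟨RankOne.rowZ_sz h, Or.inr h⟩
  · exact Or.inl (TwF4.row h)
  · exact absurd h (by norm_num)

end Cfsg.Agent.ClosedTwo.LieTwo

end
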