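import Cfsg.Agent.ClosedTwo.PspWr
import Cfsg.Agent.ClassicalGeometry.SympInvolutions

/-!
# S1252 for `PSp_2m(q)`, `q` odd: from one element to the involution `-1` on one plane (helper5)
-/

set_option autoImplicit false
set_option linter.unusedSectionVars false

namespace Cfsg.Agent.ClosedTwo.Psp

open Matrix Subgroup Cfsg Cfsg.Agent.ClassicalGeometry.SympBasic Cfsg.Agent.HoltZ.Psp Cfsg.Agent.ClosedTwo.XCover

variable {F : Type*} [Field F] {m : ℕ}

local notation "V" => (Fin m ⊕ Fin m → F)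
local notation "G" => Matrix.symplecticGroup (Fin m) F
local notation "f" => sympForm m F
local notation "Mat" => Matrix (Fin m ⊕ Fin m) (Fin m ⊕ Fin m) F
local notation "SL" => Matrix.SpecialLinearGroup (Fin 2) F

/-! ### The swap of two planes -/

/-- sum and difference of two planes -/
def cf (i j : Fin m) (v : V) : V :=
  Sum.elim (fun k => if k = i then v (.inl i) + v (.inl j) else if k = j then v (.inl i) - v (.inl j) else v (.inl k))
    (fun k => if k = i then (v (.inr i) + v (.inr j)) / 2 else if k = j then (v (.inr i) - v (.inr j)) / 2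
      else v (.inr k))

theorem cf_inl (i j : Fin m) (v : V) (k : Fin m) : cf i j v (.inl k) =
    if k = i then v (.inl i) + v (.inl j) else if k = j then v (.inl i) - v (.inl j) else v (.inl k) := rfl

theorem cf_inr (i j : Fin m) (v : V) (k : Fin m) : cf i j v (.inr k) =
    if k = i then (v (.inr i) + v (.inr j)) / 2 else if k = j then (v (.inr i) - v (.inr j)) / 2
      else v (.inr k) := rfl

theorem sum_pair {i j : Fin m} (hij : i ≠ j) {a b : Fin m → F} (h : ∀ k, k ≠ i → k ≠ j → a k = b k)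
    (h' : a i + a j = b i + b j) : ∑ k, a k = ∑ k, b k := by
  classical
  have hj : j ∈ Finset.univ.erase i := Finset.mem_erase.2 ⟨hij.symm, Finset.mem_univ _⟩
  rw [← Finset.add_sum_erase _ a (Finset.mem_univ i), ← Finset.add_sum_erase _ b (Finset.mem_univ i),
    ← Finset.add_sum_erase _ a hj, ← Finset.add_sum_erase _ b hj, ← add_assoc, ← add_assoc, h']
  congr 1
  refine Finset.sum_congr rfl fun k hk => ?_
  rw [Finset.mem_erase, Finset.mem_erase] at hk
  exact h k hk.2.1 hk.1

theorem cf_form (h2 : (2 : F) ≠ 0) {i j : Fin m} (hij : i ≠ j) (u v : V) : f (cf i j u) (cf i j v) = f u v := by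
  rw [sympForm_eq_sum, sympForm_eq_sum]
  refine sum_pair hij (fun k hi hj => ?_) ?_
  · simp only [cf_inl, cf_inr, if_neg hi, if_neg hj]
  · simp only [cf_inl, cf_inr, if_true, if_neg hij.symm]
    field_simp
    ring

/-- sum and difference of two planes, as a group element -/
def cE (h2 : (2 : F) ≠ 0) {i j : Fin m} (hij : i ≠ j) : G := ofFun (cf i j)
  (fun u v => by
    ext (k | k)
    · simp only [cf_inl, Pi.add_apply]; split_ifs <;> ring
    · simp only [cf_inr, Pi.add_apply]; split_ifs <;> ring)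
  (fun a v => by
    ext (k | k)
    · simp only [cf_inl, Pi.smul_apply, smul_eq_mul]; split_ifs <;> ring
    · simp only [cf_inr, Pi.smul_apply, smul_eq_mul]; split_ifs <;> ring)
  (cf_form h2 hij)

theorem cE_mulVec (h2 : (2 : F) ≠ 0) {i j : Fin m} (hij : i ≠ j) (v : V) :
    ((cE h2 hij : G) : Mat) *ᵥ v = cf i j v := ofFun_mulVec _ _ _ _ v

theorem neg_apply (a b : Fin 2) : (-1 : SL) a b = if a = b then -1 else 0 := by
  rw [Matrix.SpecialLinearGroup.coe_neg, Matrix.neg_apply, Matrix.SpecialLinearGroup.coe_one, Matrix.one_apply]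
  split_ifs <;> simp

/-- a swap of two planes is conjugate to `-1` on one plane -/
theorem swap_conj (h2 : (2 : F) ≠ 0) {i j : Fin m} (hij : i ≠ j) {g : Fin m → SL} (hi : g i = 1) (hj : g j = 1) :
    IsConj (pmh (Equiv.swap i j) * blk g : G) (blk (Pi.mulSingle j (-1) * g)) := by
  rw [isConj_iff]
  refine ⟨cE h2 hij, ?_⟩
  rw [mul_inv_eq_iff_eq_mul]
  refine ext_mulVec fun v => ?_
  rw [coe_mul_mulVec, coe_mul_mulVec, coe_mul_mulVec, cE_mulVec, cE_mulVec, pmh_mulVec, blk_mulVec, blk_mulVec]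
  have e0 : ∀ k, k ≠ i → k ≠ j → (Pi.mulSingle j (-1) * g : Fin m → SL) k = g k := by
    intro k _ hk
    rw [Pi.mul_apply, Pi.mulSingle_eq_of_ne hk, one_mul]
  have e1 : (Pi.mulSingle j (-1) * g : Fin m → SL) i = 1 := by
    rw [Pi.mul_apply, Pi.mulSingle_eq_of_ne hij, one_mul, hi]
  have e2 : (Pi.mulSingle j (-1) * g : Fin m → SL) j = -1 := by
    rw [Pi.mul_apply, Pi.mulSingle_eq_same, hj, mul_one]
  ext (k | k)
  · by_cases hki : k = i
    · subst hki
      rw [cf_inl, if_pos rfl, pf_inl, pf_inl, bf_inl, bf_inl, bf_inl, e1, cf_inl, cf_inr, if_pos rfl, if_pos rfl,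
        Equiv.symm_swap, Equiv.swap_apply_left, Equiv.swap_apply_right, hi, hj]
      simp [add_comm]
    by_cases hkj : k = j
    · subst hkj
      rw [cf_inl, if_neg hij.symm, if_pos rfl, pf_inl, pf_inl, bf_inl, bf_inl, bf_inl, e2, cf_inl, cf_inr,
        if_neg hij.symm, if_pos rfl, if_neg hij.symm, if_pos rfl,
        Equiv.symm_swap, Equiv.swap_apply_left, Equiv.swap_apply_right, hi, hj, neg_apply, neg_apply]
      simp
    · rw [cf_inl, if_neg hki, if_neg hkj, pf_inl, Equiv.symm_swap, Equiv.swap_apply_of_ne_of_ne hki hkj, bf_inl,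
        bf_inl, e0 k hki hkj, cf_inl, cf_inr, if_neg hki, if_neg hkj, if_neg hki, if_neg hkj]
  · by_cases hki : k = i
    · subst hki
      rw [cf_inr, if_pos rfl, pf_inr, pf_inr, bf_inr, bf_inr, bf_inr, e1, cf_inl, cf_inr, if_pos rfl, if_pos rfl,
        Equiv.symm_swap, Equiv.swap_apply_left, Equiv.swap_apply_right, hi, hj]
      simp [add_comm]
    by_cases hkj : k = j
    · subst hkj
      rw [cf_inr, if_neg hij.symm, if_pos rfl, pf_inr, pf_inr, bf_inr, bf_inr, bf_inr, e2, cf_inl, cf_inr,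
        if_neg hij.symm, if_pos rfl, if_neg hij.symm, if_pos rfl,
        Equiv.symm_swap, Equiv.swap_apply_left, Equiv.swap_apply_right, hi, hj, neg_apply, neg_apply]
      simp
      ring
    · rw [cf_inr, if_neg hki, if_neg hkj, pf_inr, Equiv.symm_swap, Equiv.swap_apply_of_ne_of_ne hki hkj, bf_inr,
        bf_inr, e0 k hki hkj, cf_inl, cf_inr, if_neg hki, if_neg hkj, if_neg hki, if_neg hkj]

/-! ### Elements with square `-1` on a plane -/

theorem ext_plane (i : Fin m) {A B : G} (h1 : (A : Mat) *ᵥ Pi.single (.inl i) 1 = (B : Mat) *ᵥ Pi.single (.inl i) 1)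
    (h2 : (A : Mat) *ᵥ Pi.single (.inr i) 1 = (B : Mat) *ᵥ Pi.single (.inr i) 1)
    (h3 : ∀ v : V, v (.inl i) = 0 → v (.inr i) = 0 → (A : Mat) *ᵥ v = (B : Mat) *ᵥ v) : A = B := by
  refine ext_mulVec fun v => ?_
  set w : V := v - v (.inl i) • Pi.single (.inl i) 1 - v (.inr i) • Pi.single (.inr i) 1 with hw
  have hv : v = w + v (.inl i) • Pi.single (.inl i) 1 + v (.inr i) • Pi.single (.inr i) 1 := by
    rw [hw]; abel
  have hw1 : w (.inl i) = 0 := by
    rw [hw, Pi.sub_apply, Pi.sub_apply, Pi.smul_apply, Pi.smul_apply, Pi.single_eq_same,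
      Pi.single_eq_of_ne (Sum.inl_ne_inr), smul_eq_mul, smul_eq_mul]
    ring
  have hw2 : w (.inr i) = 0 := by
    rw [hw, Pi.sub_apply, Pi.sub_apply, Pi.smul_apply, Pi.smul_apply, Pi.single_eq_same,
      Pi.single_eq_of_ne (Sum.inr_ne_inl), smul_eq_mul, smul_eq_mul]
    ring
  rw [hv, mulVec_add, mulVec_add, mulVec_add, mulVec_add, mulVec_smul, mulVec_smul, mulVec_smul, mulVec_smul, h1, h2,
    h3 w hw1 hw2]

theorem sg_ll (i k : Fin m) : (Pi.single (.inl i) 1 : V) (.inl k) = if k = i then 1 else 0 := by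
  rw [Pi.single_apply]; simp

theorem sg_lr (i k : Fin m) : (Pi.single (.inl i) 1 : V) (.inr k) = 0 := by
  rw [Pi.single_apply]; simp

theorem sg_rl (i k : Fin m) : (Pi.single (.inr i) 1 : V) (.inl k) = 0 := by
  rw [Pi.single_apply]; simp

theorem sg_rr (i k : Fin m) : (Pi.single (.inr i) 1 : V) (.inr k) = if k = i then 1 else 0 := by
  rw [Pi.single_apply]; simp

theorem blk_single_inl (i : Fin m) (N : SL) : ((blk (Pi.mulSingle i N) : G) : Mat) *ᵥ Pi.single (.inl i) 1 =
    N 0 0 • Pi.single (.inl i) 1 + N 1 0 • Pi.single (.inr i) 1 := by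
  rw [blk_mulVec]
  ext (k | k)
  · rw [bf_inl, Pi.add_apply, Pi.smul_apply, Pi.smul_apply, sg_ll, sg_lr, sg_rl]
    by_cases hk : k = i
    · subst hk
      rw [Pi.mulSingle_eq_same]
      simp
    · rw [if_neg hk]
      simp
  · rw [bf_inr, Pi.add_apply, Pi.smul_apply, Pi.smul_apply, sg_ll, sg_lr, sg_rr]
    by_cases hk : k = i
    · subst hk
      rw [Pi.mulSingle_eq_same]
      simp
    · rw [if_neg hk]
      simp

theorem blk_single_inr (i : Fin m) (N : SL) : ((blk (Pi.mulSingle i N) : G) : Mat) *ᵥ Pi.single (.inr i) 1 =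
    N 0 1 • Pi.single (.inl i) 1 + N 1 1 • Pi.single (.inr i) 1 := by
  rw [blk_mulVec]
  ext (k | k)
  · rw [bf_inl, Pi.add_apply, Pi.smul_apply, Pi.smul_apply, sg_ll, sg_rr, sg_rl]
    by_cases hk : k = i
    · subst hk
      rw [Pi.mulSingle_eq_same]
      simp
    · rw [if_neg hk]
      simp
  · rw [bf_inr, Pi.add_apply, Pi.smul_apply, Pi.smul_apply, sg_rl, sg_lr, sg_rr]
    by_cases hk : k = i
    · subst hk
      rw [Pi.mulSingle_eq_same]
      simp
    · rw [if_neg hk]
      simp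

theorem blk_fix (i : Fin m) (N : SL) {v : V} (h1 : v (.inl i) = 0) (h2 : v (.inr i) = 0) :
    ((blk (Pi.mulSingle i N) : G) : Mat) *ᵥ v = v := by
  rw [blk_mulVec]
  ext (k | k)
  · rw [bf_inl]
    by_cases hk : k = i
    · subst hk
      rw [h1, h2]; simp
    · rw [Pi.mulSingle_eq_of_ne hk]; simp
  · rw [bf_inr]
    by_cases hk : k = i
    · subst hk
      rw [h1, h2]; simp
    · rw [Pi.mulSingle_eq_of_ne hk]; simp

/-- `-1` on the plane `i` -/
theorem t_mulVec (i : Fin m) (v : V) : ((blk (Pi.mulSingle i (-1)) : G) : Mat) *ᵥ v =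
    v - (2 * v (.inl i)) • Pi.single (.inl i) 1 - (2 * v (.inr i)) • Pi.single (.inr i) 1 := by
  rw [blk_mulVec]
  ext (k | k)
  · rw [bf_inl, Pi.sub_apply, Pi.sub_apply, Pi.smul_apply, Pi.smul_apply, sg_ll, sg_rl]
    by_cases hk : k = i
    · subst hk
      rw [Pi.mulSingle_eq_same, neg_apply, neg_apply]
      simp
      ring
    · rw [Pi.mulSingle_eq_of_ne hk, if_neg hk]
      simp
  · rw [bf_inr, Pi.sub_apply, Pi.sub_apply, Pi.smul_apply, Pi.smul_apply, sg_lr, sg_rr]
    by_cases hk : k = i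
    · subst hk
      rw [Pi.mulSingle_eq_same, neg_apply, neg_apply]
      simp
      ring
    · rw [Pi.mulSingle_eq_of_ne hk, if_neg hk]
      simp

/-- **the key step in coordinates** -/
theorem conj_std (i : Fin m) {x : G} {c : F} (hc : c ≠ 0)
    (hr : (x : Mat) *ᵥ Pi.single (.inr i) 1 = c • Pi.single (.inl i) 1)
    (hl : (x : Mat) *ᵥ Pi.single (.inl i) 1 = (-c⁻¹) • Pi.single (.inr i) 1) {p s : F} (h : p ^ 2 + s ^ 2 = -1) :
    (∃ y : G, y * x * y⁻¹ = blk (Pi.mulSingle i (-1)) * x) ∧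
      (blk (Pi.mulSingle i (-1)) : G) * x = x * blk (Pi.mulSingle i (-1)) := by
  -- `x` preserves the complement
  have hx1 : ∀ v : V, v (.inl i) = 0 → v (.inr i) = 0 → ((x : Mat) *ᵥ v) (.inl i) = 0 := by
    intro v _ h2
    have e : (Pi.single (.inr i) 1 : V) = (x : Mat) *ᵥ ((-c) • Pi.single (.inl i) 1) := by
      rw [mulVec_smul, hl, smul_smul]
      have : -c * -c⁻¹ = 1 := by field_simp
      rw [this, one_smul]
    have h3 : f (Pi.single (.inr i) 1) ((x : Mat) *ᵥ v) = 0 := by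
      rw [e, sympForm_mulVec x.2, sympForm_smul_left, sympForm_single_inl_left, h2]
      simp
    rwa [sympForm_single_inr_left] at h3
  have hx2 : ∀ v : V, v (.inl i) = 0 → v (.inr i) = 0 → ((x : Mat) *ᵥ v) (.inr i) = 0 := by
    intro v h1 _
    have e : (Pi.single (.inl i) 1 : V) = (x : Mat) *ᵥ (c⁻¹ • Pi.single (.inr i) 1) := by
      rw [mulVec_smul, hr, smul_smul, inv_mul_cancel₀ hc, one_smul]
    have h3 : f (Pi.single (.inl i) 1) ((x : Mat) *ᵥ v) = 0 := by
      rw [e, sympForm_mulVec x.2, sympForm_smul_left, sympForm_single_inr_left, h1]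
      simp
    rw [sympForm_single_inl_left] at h3
    simpa using h3
  have hd : (!![p, s * c; s * c⁻¹, -p] : Matrix (Fin 2) (Fin 2) F).det = 1 := by
    rw [det_fin_two_of]
    have : s * c * (s * c⁻¹) = s ^ 2 := by field_simp
    rw [this]
    linear_combination -h
  let N : SL := ⟨!![p, s * c; s * c⁻¹, -p], hd⟩
  have n00 : N 0 0 = p := rfl
  have n01 : N 0 1 = s * c := rfl
  have n10 : N 1 0 = s * c⁻¹ := rfl
  have n11 : N 1 1 = -p := rfl
  constructor
  · refine ⟨blk (Pi.mulSingle i N), ?_⟩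
    rw [mul_inv_eq_iff_eq_mul]
    refine ext_plane i ?_ ?_ fun v h1 h2 => ?_
    · rw [coe_mul_mulVec, coe_mul_mulVec, coe_mul_mulVec, hl, mulVec_smul, blk_single_inr, blk_single_inl,
        mulVec_add, mulVec_smul, mulVec_smul, hl, hr, mulVec_add, mulVec_smul, mulVec_smul, mulVec_smul, mulVec_smul,
        blk_single_inl, blk_single_inr, n00, n01, n10, n11]
      ext (k | k) <;> simp [neg_apply, smul_smul] <;> by_cases hk : k = i <;> simp [hk] <;> field_simp
    · rw [coe_mul_mulVec, coe_mul_mulVec, coe_mul_mulVec, hr, mulVec_smul, blk_single_inl, blk_single_inr,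
        mulVec_add, mulVec_smul, mulVec_smul, hl, hr, mulVec_add, mulVec_smul, mulVec_smul, mulVec_smul, mulVec_smul,
        blk_single_inl, blk_single_inr, n00, n01, n10, n11]
      ext (k | k) <;> simp [neg_apply, smul_smul] <;> by_cases hk : k = i <;> simp [hk] <;> field_simp
    · rw [coe_mul_mulVec, coe_mul_mulVec, coe_mul_mulVec, blk_fix i N h1 h2, blk_fix i N (hx1 v h1 h2) (hx2 v h1 h2),
        blk_fix i (-1) (hx1 v h1 h2) (hx2 v h1 h2)]
  · refine ext_plane i ?_ ?_ fun v h1 h2 => ?_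
    · rw [coe_mul_mulVec, coe_mul_mulVec, hl, mulVec_smul, blk_single_inr, blk_single_inl,
        mulVec_add, mulVec_smul, mulVec_smul, hl, hr]
      ext (k | k) <;> simp [neg_apply]
    · rw [coe_mul_mulVec, coe_mul_mulVec, hr, mulVec_smul, blk_single_inr, blk_single_inl,
        mulVec_add, mulVec_smul, mulVec_smul, hl, hr]
      ext (k | k) <;> simp [neg_apply]
    · rw [coe_mul_mulVec, coe_mul_mulVec, blk_fix i (-1) h1 h2, blk_fix i (-1) (hx1 v h1 h2) (hx2 v h1 h2)]

end Cfsg.Agent.ClosedTwo.Psp
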